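import Mathlib
import Cfsg.Agent.H672.RM.Triple2
import Cfsg.Agent.H672.RM.Cliff

/-!
# Gluck-Wolf: relative `p'`-degrees, reduction to the central case
-/

set_option autoImplicit false
set_option linter.style.haveILetI false
set_option linter.unusedSectionVars false
open Cfsg

namespace Cfsg.Agent.H586.GW

open Cfsg.Agent.Characters.Core Cfsg.Agent.Characters.Clifford Cfsg.Agent.H672
open Cfsg.Agent.H595.Triple Cfsg.Agent.H595.Central
open Cfsg.Agent.H672.RM (over_lin_iff TSet)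
open scoped ComplexConjugate commutatorElement

universe u

/-- every irreducible character over `θ` has relative degree prime to `p` -/
def RelP (p : ℕ) {G N : Type*} [Group G] [Group N] [Finite N] (i : N →* G) (θ : N → ℂ) : Prop :=
  ∀ χ : G → ℂ, IsIrrCharacter G χ → Over i χ θ → ¬ p * charDegree θ ∣ charDegree χ

/-- the `p`-subgroups modulo `N` are abelian modulo `N` -/
def AbP (p : ℕ) {G : Type*} [Group G] (N : Subgroup G) : Prop :=
  ∀ P : Subgroup G, N ≤ P → (∃ a, N.relIndex P = p ^ a) → ∀ a ∈ P, ∀ b ∈ P, ⁅a, b⁆ ∈ N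

theorem relP_equiv {p : ℕ} {G N M : Type*} [Group G] [Finite G] [Group N] [Finite N] [Group M]
    [Finite M] (f : N →* G) (e : M ≃* N) {θ : N → ℂ} (h : RelP p f θ) :
    RelP p (f.comp e.toMonoidHom) (θ ∘ e) := by
  intro χ hχ hov
  rw [over_comp_equiv] at hov
  have h1 := h χ hχ hov
  have h2 : charDegree (θ ∘ e) = charDegree θ := by
    rw [Blocks.Basic.charDegree_def, Blocks.Basic.charDegree_def, Function.comp, map_one]
  rwa [h2]

section
variable {p : ℕ} {G : Type u} [Group G] [Finite G] (N : Subgroup G) [hN : N.Normal]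

theorem RelP.not_dvd_index {θ : N → ℂ} (hθ : IsIrrCharacter N θ) (h : RelP p N.subtype θ) :
    ¬ p ∣ (inertia N θ).index := by
  intro hd
  obtain ⟨χ, hχ, hov⟩ := exists_over_subtype N hθ
  exact h χ hχ hov ((mul_dvd_mul_right hd _).trans (index_mul_charDegree_dvd N hχ hθ hov))

theorem RelP.inertia {θ : N → ℂ} (hθ : IsIrrCharacter N θ) (h : RelP p N.subtype θ)
    (T : Subgroup G) (hT : T = inertia N θ) (hNT : N ≤ T) :
    RelP p (Subgroup.inclusion hNT) θ := by
  classical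
  letI := Fintype.ofFinite G
  letI := Fintype.ofFinite N
  letI := Fintype.ofFinite T
  intro ψ hψ hov hd
  have hT' := RM.mem_iff_conjFn N T hT
  have h1 : IsIrrCharacter G (indFun T ψ) :=
    OddOrderCharacters.PF9.CliffGen.irr_ind hθ hT' hNT hψ ((RM.over_resTo hNT _ _).1 hov)
  refine h _ h1 (RM.over_indFun N hθ T hNT hψ h1 hov) ?_
  rw [charDegree_indFun T hψ rfl]
  exact hd.mul_left _

theorem RelP.normal {θ : N → ℂ} (h : RelP p N.subtype θ) (hθ : IsIrrCharacter N θ)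
    (M : Subgroup G) [M.Normal] (hNM : N ≤ M) : RelP p (Subgroup.inclusion hNM) θ := by
  intro ψ hψ hov hd
  obtain ⟨χ, hχ, h1⟩ := exists_over_subtype M hψ
  have h2 : Over N.subtype χ θ := by
    have e : M.subtype.comp (Subgroup.inclusion hNM) = N.subtype := rfl
    rw [← e]
    exact (over_comp_iff _ _ (isIrr_isCharacter hχ) hθ).2 ⟨ψ, hψ, h1, hov⟩
  exact h χ hχ h2 (hd.trans (charDegree_dvd_of_over M hχ hψ h1).1)

theorem RelP.up {θ : N → ℂ} (h : RelP p N.subtype θ) (hθ : IsIrrCharacter N θ)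
    (hd : charDegree θ = 1)
    (M : Subgroup G) [M.Normal] (hNM : N ≤ M) {ψ : M → ℂ} (hψ : IsIrrCharacter M ψ)
    (hov : Over (Subgroup.inclusion hNM) ψ θ) : RelP p M.subtype ψ := by
  intro χ hχ h1 hd1
  have h2 : Over N.subtype χ θ := by
    have e : M.subtype.comp (Subgroup.inclusion hNM) = N.subtype := rfl
    rw [← e]
    exact (over_comp_iff _ _ (isIrr_isCharacter hχ) hθ).2 ⟨ψ, hψ, h1, hov⟩
  apply h χ hχ h2
  rw [hd, mul_one]
  exact (dvd_mul_right _ _).trans hd1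

/-- a subgroup which is a `p`-group modulo `N` is conjugate into a subgroup of index prime to
`p` -/
theorem exists_conj_le (hp : p.Prime) {P T : Subgroup G} (hNP : N ≤ P) (hNT : N ≤ T)
    (hP : ∃ a, N.relIndex P = p ^ a) (hT : ¬ p ∣ T.index) :
    ∃ g : G, ∀ a ∈ P, g⁻¹ * a * g ∈ T := by
  classical
  haveI : Fact p.Prime := ⟨hp⟩
  let mk := QuotientGroup.mk' N
  have hmk : Function.Surjective mk := QuotientGroup.mk'_surjective N
  have hker : mk.ker = N := QuotientGroup.ker_mk' N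
  let Pb := P.map mk
  let Tb := T.map mk
  have hPb : IsPGroup p Pb := by
    obtain ⟨a, ha⟩ := hP
    refine IsPGroup.of_card (n := a) ?_
    have h1 := Subgroup.relIndex_comap (N.map mk) mk P
    have h2 : (N.map mk).comap mk = N := by
      rw [Subgroup.comap_map_eq, hker, sup_idem]
    rw [h2] at h1
    have h3 : N.map mk = ⊥ := by
      rw [Subgroup.map_eq_bot_iff, hker]
    rw [h3, Subgroup.relIndex_bot_left] at h1
    rw [← h1, ha]
  have hTb : ¬ p ∣ Tb.index := by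
    rw [Subgroup.index_map_eq T hmk (by rw [hker]; exact hNT)]
    exact hT
  have hcard : ¬ p ∣ Nat.card ((G ⧸ N) ⧸ Tb) := hTb
  obtain ⟨x, hx⟩ := hPb.nonempty_fixed_point_of_prime_not_dvd_card ((G ⧸ N) ⧸ Tb) hcard
  obtain ⟨y, rfl⟩ := QuotientGroup.mk_surjective x
  obtain ⟨g, rfl⟩ := hmk y
  refine ⟨g, fun a ha => ?_⟩
  have h1 : (⟨mk a, ⟨a, ha, rfl⟩⟩ : Pb) • (QuotientGroup.mk (mk g) : (G ⧸ N) ⧸ Tb) =
      QuotientGroup.mk (mk g) := hx _
  have h2 : (QuotientGroup.mk (mk a * mk g) : (G ⧸ N) ⧸ Tb) = QuotientGroup.mk (mk g) := h1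
  have h3 := QuotientGroup.eq.1 h2
  have h4 : mk (g⁻¹ * a⁻¹ * g) ∈ Tb := by
    have e : mk (g⁻¹ * a⁻¹ * g) = (mk a * mk g)⁻¹ * mk g := by
      simp [mul_assoc]
    rw [e]
    exact h3
  have h5 : g⁻¹ * a⁻¹ * g ∈ T := by
    have h6 : g⁻¹ * a⁻¹ * g ∈ Tb.comap mk := h4
    rw [Subgroup.comap_map_eq, hker, sup_eq_left.2 hNT] at h6
    exact h6
  have h7 := T.inv_mem h5
  have e : (g⁻¹ * a⁻¹ * g)⁻¹ = g⁻¹ * a * g := by group
  rwa [e] at h7

theorem AbP.of_index (hp : p.Prime) {T : Subgroup G} (hNT : N ≤ T) (hT : ¬ p ∣ T.index)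
    (h : AbP p (N.subgroupOf T)) : AbP p N := by
  intro P hNP hP a ha b hb
  obtain ⟨g, hg⟩ := exists_conj_le N hp hNP hNT hP hT
  let P' : Subgroup G := P.map (MulAut.conj g⁻¹).toMonoidHom
  have hmem : ∀ x ∈ P, g⁻¹ * x * g ∈ P' := by
    intro x hx
    refine ⟨x, hx, ?_⟩
    simp [MulAut.conj_apply]
  have hP'T : P' ≤ T := by
    rintro _ ⟨x, hx, rfl⟩
    have := hg x hx
    simpa [MulAut.conj_apply] using this
  have hN' : N.map (MulAut.conj g⁻¹).toMonoidHom = N := by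
    ext x
    constructor
    · rintro ⟨y, hy, rfl⟩
      exact hN.conj_mem y hy g⁻¹
    · intro hx
      refine ⟨g * x * g⁻¹, hN.conj_mem x hx g, ?_⟩
      simp only [MulEquiv.coe_toMonoidHom, MulAut.conj_apply]
      group
  have hNP' : N ≤ P' := by
    rw [← hN']
    exact Subgroup.map_mono hNP
  have hrel : N.relIndex P' = N.relIndex P := by
    have h1 : (N.map (MulAut.conj g⁻¹).toMonoidHom).relIndex P' = N.relIndex P :=
      Subgroup.relIndex_map_map_of_injective _ _ (MulAut.conj g⁻¹).injective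
    rwa [hN'] at h1
  obtain ⟨k, hk⟩ := hP
  have h1 := h (P'.subgroupOf T) (Subgroup.comap_mono hNP') ⟨k, by
    rw [Subgroup.relIndex_subgroupOf hP'T, hrel, hk]⟩ ⟨g⁻¹ * a * g, hg a ha⟩ (hmem a ha)
    ⟨g⁻¹ * b * g, hg b hb⟩ (hmem b hb)
  have h2 : ⁅g⁻¹ * a * g, g⁻¹ * b * g⁆ ∈ N := h1
  have h3 : ⁅a, b⁆ = g * ⁅g⁻¹ * a * g, g⁻¹ * b * g⁆ * g⁻¹ := by
    simp only [commutatorElement_def]
    group
  rw [h3]
  exact hN.conj_mem _ h2 g

end

/-- The statement for groups of index `n`. -/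
def Goal (p n : ℕ) : Prop :=
  ∀ {G : Type u} [Group G] [Finite G] (N : Subgroup G) [N.Normal] (θ : N → ℂ),
    IsIrrCharacter N θ → IsPSolvable p (G ⧸ N) → N.index = n → RelP p N.subtype θ → AbP p N

/-- The statement for central subgroups and faithful characters. -/
def CGoal (p n : ℕ) : Prop :=
  ∀ {G : Type u} [Group G] [Finite G] (Z : Subgroup G) (_ : Z ≤ Subgroup.center G)
    (l : Z →* ℂˣ), Function.Injective l → IsPSolvable p G → Z.index = n →
      RelP p Z.subtype (lf l) → AbP p Z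

end Cfsg.Agent.H586.GW
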