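import Mathlib
import Cfsg.Agent.H586.GW.Rel

/-!
# Gluck-Wolf: reduction to the central case
-/

set_option autoImplicit false
set_option linter.style.haveILetI false
set_option linter.unusedSectionVars false
open Cfsg

namespace Cfsg.Agent.H586.GW

open Cfsg.Agent.Characters.Core Cfsg.Agent.Characters.Clifford Cfsg.Agent.H672
open Cfsg.Agent.H595.Triple Cfsg.Agent.H595.Central
open Cfsg.Agent.H672.RM (over_lin_iff TSet)
open scoped ComplexConjugate commutatorElement

universe u

theorem AbP.comap {p : ℕ} {G Q : Type*} [Group G] [Group Q] (q : G →* Q)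
    (hq : Function.Surjective q) {N : Subgroup Q} (h : AbP p N) : AbP p (N.comap q) := by
  rintro P hNP ⟨k, hk⟩ a ha b hb
  have h1 : N ≤ P.map q := by
    rw [← Subgroup.map_comap_eq_self_of_surjective hq N]
    exact Subgroup.map_mono hNP
  have h2 := h (P.map q) h1 ⟨k, by rw [← Subgroup.relIndex_comap, hk]⟩ (q a) ⟨a, ha, rfl⟩ (q b)
    ⟨b, hb, rfl⟩
  show q ⁅a, b⁆ ∈ N
  rwa [map_commutatorElement]

theorem AbP.of_comap {p : ℕ} {G Q : Type*} [Group G] [Group Q] (q : G →* Q)
    (hq : Function.Surjective q) {N : Subgroup Q} (h : AbP p (N.comap q)) : AbP p N := by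
  rintro P hNP ⟨k, hk⟩ a ha b hb
  obtain ⟨a, rfl⟩ := hq a
  obtain ⟨b, rfl⟩ := hq b
  have h1 := h (P.comap q) (Subgroup.comap_mono hNP) ⟨k, by
    rw [Subgroup.relIndex_comap, Subgroup.map_comap_eq_self_of_surjective hq, hk]⟩ a ha b hb
  have h2 : q ⁅a, b⁆ ∈ N := h1
  rwa [map_commutatorElement] at h2

section faithful
variable {p : ℕ} {G : Type u} [Group G] [Finite G]

theorem center_normal (Z : Subgroup G) (hZ : Z ≤ Subgroup.center G) : Z.Normal :=
  ⟨fun z hz g => by
    rw [Subgroup.mem_center_iff.1 (hZ hz) g, mul_assoc]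
    simpa using hz⟩

theorem psolvable_of_central [Fact p.Prime] (Z : Subgroup G) (hZ : Z ≤ Subgroup.center G)
    [Z.Normal] (h : IsPSolvable p (G ⧸ Z)) : IsPSolvable p G := by
  haveI : Group.IsSolvable Z := Group.isSolvable_of_comm (fun a b => Subtype.ext
    (Subgroup.mem_center_iff.1 (hZ b.2) (a : G)))
  exact Cfsg.Agent.Lib.PSolvable.IsPSolvable_of_extension p Z
    (Cfsg.Agent.Lib.PSolvable.IsPSolvable_of_solvable p) h

/-- the central case for characters which are not faithful -/
theorem CGoal.all [Fact p.Prime] {n : ℕ} (h : CGoal.{u} p n) (Z : Subgroup G)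
    (hZ : Z ≤ Subgroup.center G) (l : Z →* ℂˣ) (hps : IsPSolvable p G)
    (hn : Z.index = n) (hrel : RelP p Z.subtype (lf l)) : AbP p Z := by
  classical
  let K : Subgroup G := l.ker.map Z.subtype
  have hKZ : K ≤ Z := by
    rintro _ ⟨z, -, rfl⟩
    exact z.2
  haveI hK : K.Normal := center_normal K (hKZ.trans hZ)
  let q : G →* G ⧸ K := QuotientGroup.mk' K
  have hq : Function.Surjective q := QuotientGroup.mk'_surjective K
  have hkq : q.ker = K := QuotientGroup.ker_mk' K
  let Z' : Subgroup (G ⧸ K) := Z.map q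
  have hcomap : Z'.comap q = Z := by
    rw [Subgroup.comap_map_eq, hkq, sup_eq_left.2 hKZ]
  have hZ' : Z' ≤ Subgroup.center (G ⧸ K) := by
    rintro _ ⟨z, hz, rfl⟩
    rw [Subgroup.mem_center_iff]
    intro x
    obtain ⟨x, rfl⟩ := hq x
    rw [← map_mul, ← map_mul, Subgroup.mem_center_iff.1 (hZ hz) x]
  let f : Z →* Z' := (q.comp Z.subtype).codRestrict Z' (fun z => ⟨z, z.2, rfl⟩)
  have hf : Function.Surjective f := by
    rintro ⟨_, z, hz, rfl⟩
    exact ⟨⟨z, hz⟩, rfl⟩
  have hkf : f.ker ≤ l.ker := by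
    intro z hz
    have h1 : q (z : G) = 1 := congrArg Subtype.val (MonoidHom.mem_ker.1 hz)
    have h2 : (z : G) ∈ K := by rw [← hkq]; exact MonoidHom.mem_ker.2 h1
    obtain ⟨w, hw, hwz⟩ := h2
    have : w = z := Subtype.ext hwz
    rwa [← this]
  let l' : Z' →* ℂˣ := f.liftOfSurjective hf ⟨l, hkf⟩
  have hl' : ∀ z, l' (f z) = l z := fun z => MonoidHom.liftOfRightInverse_comp_apply _ _ _ _ _
  have hinj : Function.Injective l' := by
    rw [injective_iff_map_eq_one]
    intro z hz
    obtain ⟨z, rfl⟩ := hf z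
    rw [hl'] at hz
    apply Subtype.ext
    change q (z : G) = 1
    rw [← MonoidHom.mem_ker, hkq]
    exact ⟨z, hz, rfl⟩
  have hab : AbP p Z' := by
    refine h Z' hZ' l' hinj (Cfsg.Agent.Lib.PSolvable.IsPSolvable_of_surjective p hps q hq) ?_ ?_
    · rw [← hn]
      exact Subgroup.index_map_eq Z hq (by rw [hkq]; exact hKZ)
    · intro χ hχ hov hd
      have h1 : IsIrrCharacter G (χ ∘ q) := isIrr_comp q hq hχ
      refine hrel (χ ∘ q) h1 ?_ ?_
      · rw [over_lin_iff Z.subtype (fun z => hZ z.2) h1]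
        rw [over_lin_iff Z'.subtype (fun z => hZ' z.2) hχ] at hov
        intro z
        have h2 := hov (f z)
        rw [hl'] at h2
        change χ (q z) = χ (q 1) * _
        rw [map_one]
        exact h2
      · rw [charDegree_comp_one, charDegree_lf]
        rwa [charDegree_lf] at hd
  rw [← hcomap]
  exact hab.comap q hq

end faithful

section triple
variable {p : ℕ}

/-- A character triple isomorphism with a central triple. -/
theorem exists_triple [hp : Fact p.Prime] {Γ : Type u} [Group Γ] [Finite Γ] (N : Subgroup Γ)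
    [hN : N.Normal] {θ : N → ℂ} (hθ : IsIrrCharacter N θ) (hinv : inertia N θ = ⊤) :
    ∃ (Δ Q : Type u) (_ : Group Δ) (_ : Group Q) (_ : Finite Q) (π : Δ →* Γ) (m : Δ →* Q)
      (Z : Subgroup Q) (l : Z →* ℂˣ), Function.Surjective π ∧ Function.Surjective m ∧
        N.comap π = Z.comap m ∧ Z ≤ Subgroup.center Q ∧ (RelP p N.subtype θ → RelP p Z.subtype (lf l))
        ∧ (IsPSolvable p (Γ ⧸ N) → IsPSolvable p Q) := by
  classical
  have hinv' : Cfsg.Agent.H595.Count.CInv N θ := by
    intro g n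
    have h1 : g ∈ inertia N θ := by rw [hinv]; trivial
    exact mem_inertia_iff.1 h1 n
  obtain ⟨Δ, hΔ, hΔf, π, s, χR, h⟩ := exists_cov N ⟨θ, hθ⟩ hinv'
  have hLn := h.normal
  have hsec : ∀ n, π (s n) = n := h.section_
  let m : Δ →* Δ ⧸ s.range := QuotientGroup.mk' s.range
  have hm : Function.Surjective m := QuotientGroup.mk'_surjective _
  have hkm : m.ker = s.range := QuotientGroup.ker_mk' _
  let Z : Subgroup (Δ ⧸ s.range) := π.ker.map m
  have hZcomap : N.comap π = Z.comap m := by
    rw [Subgroup.comap_map_eq, hkm]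
    apply le_antisymm
    · intro x hx
      obtain ⟨n, z, hz, rfl⟩ := h.comap_eq x hx
      exact mul_mem (Subgroup.mem_sup_right ⟨n, rfl⟩) (Subgroup.mem_sup_left hz)
    · refine sup_le (fun x hx => ?_) ?_
      · show π x ∈ N
        rw [MonoidHom.mem_ker.1 hx]
        exact one_mem N
      · rintro _ ⟨n, rfl⟩
        show π (s n) ∈ N
        rw [hsec]
        exact n.2
  have hZc : Z ≤ Subgroup.center (Δ ⧸ s.range) := by
    rintro _ ⟨z, hz, rfl⟩
    rw [Subgroup.mem_center_iff]
    intro q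
    obtain ⟨x, rfl⟩ := hm q
    rw [← map_mul, ← map_mul, Subgroup.mem_center_iff.1 (h.ker_le hz) x]
  obtain ⟨c, hc, -⟩ := Cfsg.Agent.CharactersDeep.Extraspecial.exists_central_hom h.irr
  let c' : π.ker →* ℂˣ := c.comp (Subgroup.inclusion h.ker_le)
  have hc' : ∀ (x : Δ) (z : π.ker), χR (x * z) = χR x * c' z := fun x z =>
    hc x (Subgroup.inclusion h.ker_le z)
  let f : π.ker →* Z := (m.comp π.ker.subtype).codRestrict Z (fun z => ⟨z, z.2, rfl⟩)
  have hfb : Function.Bijective f := by
    constructor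
    · rw [injective_iff_map_eq_one]
      intro z hz
      have h1 : m (z : Δ) = 1 := congrArg (fun y : Z => (y : Δ ⧸ s.range)) hz
      have h2 : (z : Δ) ∈ s.range := (QuotientGroup.eq_one_iff _).1 h1
      exact Subtype.ext (h.disj (MonoidHom.mem_ker.1 z.2) h2)
    · rintro ⟨_, z, hz, rfl⟩
      exact ⟨⟨z, hz⟩, rfl⟩
  let e : π.ker ≃* Z := MulEquiv.ofBijective f hfb
  let l : Z →* ℂˣ := (c'⁻¹).comp e.symm.toMonoidHom
  have hl : ∀ z : π.ker, l (e z) = (c'⁻¹) z := by
    intro z
    show (c'⁻¹) (e.symm (e z)) = _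
    rw [e.symm_apply_apply]
  have hTS : TSet π m s χR θ c' := by
    refine ⟨h.surj, hm, ?_, hkm.symm, h.ker_le, h.irr, hθ, h.ext, hc'⟩
    intro a b hab
    have h2 := congrArg π hab
    rw [hsec, hsec] at h2
    exact Subtype.ext h2
  refine ⟨Δ, Δ ⧸ s.range, inferInstance, inferInstance, inferInstance, π, m, Z, l,
    h.surj, hm, hZcomap, hZc, ?_, ?_⟩
  · intro hrel β hβ hov hd
    rw [over_lin_iff Z.subtype (fun z => hZc z.2) hβ] at hov
    have hcB : ∀ z : π.ker, (m.comp π.ker.subtype) z ∈ Subgroup.center (Δ ⧸ s.range) :=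
      fun z => hZc ⟨z, z.2, rfl⟩
    have h1 : Over (m.comp π.ker.subtype) β (lf c'⁻¹) := by
      rw [over_lin_iff _ hcB hβ]
      intro z
      rw [← hl]
      exact hov (e z)
    obtain ⟨χ, hχ⟩ := hTS.exists_down hβ h1
    have hdeg : charDegree (χ : Γ → ℂ) = charDegree β * charDegree θ := by
      apply charDegree_of_eq
      have h1 := hχ 1
      rw [map_one, map_one] at h1
      have h2 := h.ext 1
      rw [map_one] at h2
      change χR 1 = θ 1 at h2
      rw [h1, h2, ← coe_charDegree hβ, ← coe_charDegree hθ]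
      push_cast; rfl
    refine hrel χ χ.2 ?_ ?_
    · letI := Fintype.ofFinite N
      rw [over_iff]
      have e : (χ : Γ → ℂ) ∘ N.subtype = β 1 • θ := by
        funext n
        change (χ : Γ → ℂ) n = β 1 * θ n
        have h1 : s n ∈ m.ker := by rw [hkm]; exact ⟨n, rfl⟩
        rw [← hsec n, hχ, h.ext, MonoidHom.mem_ker.1 h1]
      rw [e, classInner_smul_left, classInner_irr_self hθ, mul_one]
      exact isIrr_apply_one_ne_zero hβ
    · rw [hdeg]
      rw [charDegree_lf, mul_one] at hd
      exact mul_dvd_mul_right hd _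
  · intro hps
    haveI : Z.Normal := center_normal Z hZc
    apply psolvable_of_central Z hZc
    -- `Q / Z` is a quotient of `Γ / N`
    have hker : (N.comap π) = ((QuotientGroup.mk' Z).comp m).ker := by
      rw [← MonoidHom.comap_ker, QuotientGroup.ker_mk', hZcomap]
    let g : Δ →* Γ ⧸ N := (QuotientGroup.mk' N).comp π
    have hg : Function.Surjective g := (QuotientGroup.mk'_surjective N).comp h.surj
    have hgk : g.ker = N.comap π := by
      rw [← MonoidHom.comap_ker, QuotientGroup.ker_mk']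
    let F : (Γ ⧸ N) →* (Δ ⧸ s.range) ⧸ Z :=
      g.liftOfSurjective hg ⟨(QuotientGroup.mk' Z).comp m, by rw [hgk, hker]⟩
    have hF : ∀ x, F (g x) = (QuotientGroup.mk' Z).comp m x :=
      fun x => MonoidHom.liftOfRightInverse_comp_apply _ _ _ _ _
    refine Cfsg.Agent.Lib.PSolvable.IsPSolvable_of_surjective p hps F ?_
    intro y
    obtain ⟨y, rfl⟩ := QuotientGroup.mk'_surjective Z y
    obtain ⟨x, rfl⟩ := hm y
    exact ⟨g x, hF x⟩

/-- **Reduction to the central case.** -/
theorem goal_of_cgoal [hp : Fact p.Prime] {n : ℕ} (ih : ∀ k < n, Goal.{u} p k)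
    (hc : CGoal.{u} p n) : Goal.{u} p n := by
  intro G _ _ N _ θ hθ hps hn hrel
  have hidx := hrel.not_dvd_index N hθ
  have hNT : N ≤ inertia N θ := le_inertia (isIrr_isClassFunction hθ)
  by_cases hT : inertia N θ = ⊤
  · obtain ⟨Δ, Q, _, _, _, π, m, Z, l, hπ, hm, hcomap, hZ, h1, h2⟩ :=
      exists_triple (p := p) N hθ hT
    apply AbP.of_comap π hπ
    rw [hcomap]
    refine AbP.comap m hm (hc.all Z hZ l (h2 hps) ?_ (h1 hrel))
    rw [← hn, ← Subgroup.index_comap_of_surjective N hπ, hcomap,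
      Subgroup.index_comap_of_surjective Z hm]
  · apply AbP.of_index N hp.out hNT hidx
    have h1 := hrel.inertia N hθ _ rfl hNT
    have h2 := relP_equiv _ (Subgroup.subgroupOfEquivOfLe hNT) h1
    have h3 : (N.subgroupOf (inertia N θ)).index < n := by
      rw [← hn]
      have h4 : N.relIndex (inertia N θ) * (inertia N θ).index = N.index :=
        Subgroup.relIndex_mul_index hNT
      have h5 : (inertia N θ).index ≠ 1 := fun h => hT (Subgroup.index_eq_one.1 h)
      have h6 : (inertia N θ).index ≠ 0 := Subgroup.index_ne_zero_of_finite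
      have h7 : N.relIndex (inertia N θ) ≠ 0 := Subgroup.index_ne_zero_of_finite
      change N.relIndex (inertia N θ) < N.index
      rw [← h4]
      have h8 : 2 ≤ (inertia N θ).index := by omega
      nlinarith [Nat.pos_of_ne_zero h7]
    refine ih _ h3 (N.subgroupOf (inertia N θ)) _ ?_ ?_ rfl h2
    · exact isIrr_comp (Subgroup.subgroupOfEquivOfLe hNT).toMonoidHom
        (Subgroup.subgroupOfEquivOfLe hNT).surjective hθ
    · let j : (inertia N θ) →* G ⧸ N := (QuotientGroup.mk' N).comp (inertia N θ).subtype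
      have hj : j.ker = N.subgroupOf (inertia N θ) := by
        rw [← MonoidHom.comap_ker, QuotientGroup.ker_mk']
        rfl
      let J : (inertia N θ) ⧸ N.subgroupOf (inertia N θ) →* G ⧸ N :=
        QuotientGroup.lift _ j (by rw [hj])
      refine Cfsg.Agent.Lib.PSolvable.IsPSolvable_of_injective p hps J ?_
      rw [injective_iff_map_eq_one]
      intro x hx
      obtain ⟨x, rfl⟩ := QuotientGroup.mk'_surjective _ x
      have h9 : j x = 1 := hx
      have h10 : x ∈ N.subgroupOf (inertia N θ) := by rw [← hj]; exact MonoidHom.mem_ker.2 h9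
      exact (QuotientGroup.eq_one_iff _).2 h10

end triple

end Cfsg.Agent.H586.GW
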