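import Mathlib
import Cfsg.Agent.H586.GW.Struct
import Cfsg.Agent.Blocks.SemiregularGram

/-!
# Gluck-Wolf: the dual of the normal `p`-subgroup
-/

set_option autoImplicit false
set_option linter.style.haveILetI false
set_option linter.unusedSectionVars false
open Cfsg

namespace Cfsg.Agent.H586.GW

open Cfsg.Agent.Characters.Core Cfsg.Agent.Characters.Clifford Cfsg.Agent.H672
open Cfsg.Agent.H672.RM (over_lin_iff)
open scoped commutatorElement

universe u

section act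
variable {G : Type u} [Group G] {Y : Subgroup G} [hY : Y.Normal]

/-- conjugation action on linear characters -/
def cj (g : G) (v : Y →* ℂˣ) : Y →* ℂˣ := v.comp (MulAut.conjNormal g⁻¹ : MulAut Y).toMonoidHom

theorem cj_apply (g : G) (v : Y →* ℂˣ) (y : Y) : cj g v y = v (MulAut.conjNormal g⁻¹ y) := rfl

theorem cj_one (v : Y →* ℂˣ) : cj 1 v = v := by
  ext y
  simp [cj_apply]

theorem cj_mul (g h : G) (v : Y →* ℂˣ) : cj (g * h) v = cj g (cj h v) := by
  ext y
  simp [cj_apply]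

theorem cj_hom_mul (g : G) (v w : Y →* ℂˣ) : cj g (v * w) = cj g v * cj g w := rfl

theorem cj_hom_one (g : G) : cj g (1 : Y →* ℂˣ) = 1 := rfl

theorem cj_hom_pow (g : G) (v : Y →* ℂˣ) (n : ℕ) : cj g (v ^ n) = cj g v ^ n := rfl

theorem cj_hom_inv (g : G) (v : Y →* ℂˣ) : cj g v⁻¹ = (cj g v)⁻¹ := rfl

theorem cj_eq_iff (g : G) (v : Y →* ℂˣ) : cj g v = v ↔ ∀ y : Y, v (MulAut.conjNormal g y) = v y := by
  constructor
  · intro h y
    have := congrArg (fun f : Y →* ℂˣ => f (MulAut.conjNormal g y)) h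
    simp only [cj_apply] at this
    rw [← this]
    congr 1
    simp
  · intro h
    ext y
    rw [cj_apply]
    congr 1
    rw [← h (MulAut.conjNormal g⁻¹ y)]
    congr 1
    simp

theorem mem_inertia_iff_cj [Finite G] (g : G) (v : Y →* ℂˣ) : g ∈ inertia Y (lf v) ↔ cj g v = v := by
  rw [mem_inertia_lf, cj_eq_iff]

theorem cj_of_mem (hab : ∀ a ∈ Y, ∀ b ∈ Y, a * b = b * a) {g : G} (hg : g ∈ Y) (v : Y →* ℂˣ) :
    cj g v = v := by
  rw [cj_eq_iff]
  intro y
  congr 1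
  apply Subtype.ext
  rw [MulAut.conjNormal_apply, hab g hg y y.2, mul_inv_cancel_right]

end act

section norm
variable {p : ℕ} [hp : Fact p.Prime] {G : Type u} [Group G] [Finite G] {Z Y K : Subgroup G}
  [hY : Y.Normal]

/-- the linear characters of `Y` which are trivial on `Z` -/
def tr (Z Y : Subgroup G) : Subgroup (Y →* ℂˣ) where
  carrier := {v | ∀ y : Y, (y : G) ∈ Z → v y = 1}
  one_mem' := fun _ _ => rfl
  mul_mem' := by
    intro v w hv hw y hy
    rw [MonoidHom.mul_apply, hv y hy, hw y hy, mul_one]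
  inv_mem' := by
    intro v hv y hy
    rw [MonoidHom.inv_apply, hv y hy, inv_one]

theorem mem_tr {v : Y →* ℂˣ} : v ∈ tr Z Y ↔ ∀ y : Y, (y : G) ∈ Z → v y = 1 := Iff.rfl

theorem cj_mem_tr (hZ : Z.Normal) (g : G) {v : Y →* ℂˣ} (hv : v ∈ tr Z Y) : cj g v ∈ tr Z Y := by
  intro y hy
  rw [cj_apply]
  apply hv
  rw [MulAut.conjNormal_apply]
  exact hZ.conj_mem _ hy _

theorem pow_mem_of_relIndex (hZ : Z.Normal) (y : Y) :
    (y : G) ^ Z.relIndex Y ∈ Z := by
  haveI : (Z.subgroupOf Y).Normal := inferInstance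
  have h1 : y ^ (Z.subgroupOf Y).index ∈ Z.subgroupOf Y := Subgroup.pow_index_mem _ y
  exact h1

theorem tr_pow (hZ : Z.Normal) {v : Y →* ℂˣ} (hv : v ∈ tr Z Y) (y : Y) :
    v y ^ Z.relIndex Y = 1 := by
  rw [← map_pow, hv _ (pow_mem_of_relIndex hZ y)]

/-- an element of the torsor of extensions fixed by `K` -/
theorem exists_fixed (hZ : Z ≤ Subgroup.center G) (hZY : Z ≤ Y) (hYK : Y ≤ K)
    (hab : ∀ a ∈ Y, ∀ b ∈ Y, a * b = b * a) {k : ℕ} (hpY : Z.relIndex Y = p ^ k)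
    (hpK : ¬ p ∣ Y.relIndex K) (m : Y →* ℂˣ) :
    ∃ μ : Y →* ℂˣ, (∀ y : Y, (y : G) ∈ Z → μ y = m y) ∧ ∀ g ∈ K, cj g μ = μ := by
  classical
  have hZn : Z.Normal := center_normal Z hZ
  let L : Subgroup K := Y.subgroupOf K
  letI : Fintype (K ⧸ L) := Fintype.ofFinite _
  let f : K ⧸ L → (Y →* ℂˣ) := Quotient.lift (fun g : K => cj (g : G) m) (by
    intro a b hab'
    have h1 : a⁻¹ * b ∈ L := QuotientGroup.leftRel_apply.1 hab'
    have h2 : (b : G) = a * ((a : G)⁻¹ * b) := by group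
    change cj (a : G) m = cj (b : G) m
    rw [h2, cj_mul, cj_of_mem hab (show (a : G)⁻¹ * b ∈ Y from h1)])
  have hf : ∀ g : K, f (g : K ⧸ L) = cj (g : G) m := fun g => rfl
  let Nm : Y →* ℂˣ := ∏ q : K ⧸ L, f q
  have hNm : ∀ g ∈ K, cj g Nm = Nm := by
    intro g hg
    have h1 : cj g Nm = ∏ q : K ⧸ L, cj g (f q) := by
      let F : (Y →* ℂˣ) →* (Y →* ℂˣ) :=
        { toFun := cj g, map_one' := cj_hom_one g, map_mul' := cj_hom_mul g }
      exact map_prod F _ _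
    rw [h1]
    refine Fintype.prod_equiv (MulAction.toPerm (⟨g, hg⟩ : K)) _ _ fun q => ?_
    obtain ⟨x, rfl⟩ := QuotientGroup.mk_surjective q
    rw [hf, ← cj_mul]
    rfl
  have hres : ∀ g : G, ∀ y : Y, (y : G) ∈ Z → cj g m y = m y := by
    intro g y hy
    rw [cj_apply]
    congr 1
    apply Subtype.ext
    rw [MulAut.conjNormal_apply, inv_inv, Subgroup.mem_center_iff.1 (hZ hy) g⁻¹,
      inv_mul_cancel_right]
  have hNres : ∀ y : Y, (y : G) ∈ Z → Nm y = m y ^ Y.relIndex K := by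
    intro y hy
    have h1 : Nm y = ∏ q : K ⧸ L, f q y := MonoidHom.finsetProd_apply _ _ _
    rw [h1, Finset.prod_congr rfl (g := fun _ => m y), Finset.prod_const, Finset.card_univ,
      ← Nat.card_eq_fintype_card]
    · rfl
    · intro q _
      obtain ⟨x, rfl⟩ := QuotientGroup.mk_surjective q
      rw [hf, hres _ y hy]
  set b := Y.relIndex K with hb
  let w : Y →* ℂˣ := Nm * (m ^ b)⁻¹
  have hw : w ∈ tr Z Y := by
    intro y hy
    change Nm y * (m ^ b)⁻¹ y = 1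
    rw [hNres y hy, MonoidHom.inv_apply, MonoidHom.pow_apply, mul_inv_cancel]
  have hcop : Nat.Coprime b (p ^ k) :=
    Nat.Coprime.pow_right _ ((Nat.Prime.coprime_iff_not_dvd hp.out).2 hpK).symm
  obtain ⟨c, hc⟩ : ∃ c : ℕ, b * c ≡ 1 [MOD p ^ k] := by
    by_cases hk : 1 < p ^ k
    · obtain ⟨j, hj⟩ := Nat.exists_mul_mod_eq_one_of_coprime hcop hk
      exact ⟨j, by rw [Nat.ModEq, hj.2, Nat.mod_eq_of_lt hk]⟩
    · have : p ^ k = 1 := le_antisymm (not_lt.1 hk) (Nat.one_le_pow _ _ hp.out.pos)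
      exact ⟨0, by rw [this]; exact Nat.modEq_one⟩
  have hwp : ∀ y, w y ^ p ^ k = 1 := by rw [← hpY]; exact tr_pow hZn hw
  have hwc : ∀ y, (w y ^ c) ^ b = w y := by
    intro y
    rw [← pow_mul, mul_comm c b]
    conv_rhs => rw [← pow_one (w y)]
    exact pow_eq_pow_iff_modEq.2 (hc.of_dvd (orderOf_dvd_of_pow_eq_one (hwp y)))
  let μ : Y →* ℂˣ := m * w ^ c
  have hμ : ∀ y, μ y = m y * w y ^ c := fun y => rfl
  have hμb : ∀ y, μ y ^ b = Nm y := by
    intro y
    rw [hμ, mul_pow, hwc]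
    change m y ^ b * (Nm y * (m y ^ b)⁻¹) = Nm y
    rw [mul_comm (Nm y), mul_inv_cancel_left]
  refine ⟨μ, ?_, ?_⟩
  · intro y hy
    rw [hμ, hw y hy, one_pow, mul_one]
  · intro g hg
    have h1 : cj g μ * μ⁻¹ ∈ tr Z Y := by
      intro y hy
      have h2 : cj g μ y = μ y := by
        rw [cj_apply]
        congr 1
        apply Subtype.ext
        rw [MulAut.conjNormal_apply, inv_inv, Subgroup.mem_center_iff.1 (hZ hy) g⁻¹,
          inv_mul_cancel_right]
      rw [MonoidHom.mul_apply, h2, MonoidHom.inv_apply, mul_inv_cancel]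
    ext y
    have h2 : ((cj g μ * μ⁻¹) y) ^ p ^ k = 1 := by rw [← hpY]; exact tr_pow hZn h1 y
    have h3 : ((cj g μ * μ⁻¹) y) ^ b = 1 := by
      change (μ (MulAut.conjNormal g⁻¹ y) * (μ y)⁻¹) ^ b = 1
      rw [mul_pow, inv_pow, hμb, hμb]
      have h5 := congrArg (fun F : Y →* ℂˣ => F y) (hNm g hg)
      change Nm (MulAut.conjNormal g⁻¹ y) = Nm y at h5
      rw [h5, mul_inv_cancel]
    have h4 := pow_gcd_eq_one.2 ⟨h3, h2⟩
    rw [hcop.gcd_eq_one, pow_one] at h4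
    change cj g μ y * (μ y)⁻¹ = 1 at h4
    rw [mul_inv_eq_one] at h4
    rw [h4]

end norm

end Cfsg.Agent.H586.GW
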