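import Mathlib
import Cfsg.Agent.H586.GW.Dual

/-!
# Gluck-Wolf: consequences of minimality for the dual module
-/

set_option autoImplicit false
set_option linter.style.haveILetI false
set_option linter.unusedSectionVars false
open Cfsg

namespace Cfsg.Agent.H586.GW

open Cfsg.Agent.Characters.Core Cfsg.Agent.Characters.Clifford Cfsg.Agent.H672
open Cfsg.Agent.H672.RM (over_lin_iff)
open scoped commutatorElement

universe u

variable {p : ℕ} [hp : Fact p.Prime] {G : Type u} [Group G] [Finite G] {Z Y K : Subgroup G}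
  {l : Z →* ℂˣ}

/-- characters of `Y / Z` separate the points -/
theorem sep_tr (hZ : Z.Normal)
    (hab : ∀ a ∈ Y, ∀ b ∈ Y, a * b = b * a) (a : Y) (h : ∀ v ∈ tr Z Y, v a = 1) : (a : G) ∈ Z := by
  classical
  by_contra hcon
  let L := Z.subgroupOf Y
  letI : CommGroup (Y ⧸ L) :=
    { (inferInstance : Group (Y ⧸ L)) with
      mul_comm := by
        intro x y
        obtain ⟨x, rfl⟩ := QuotientGroup.mk_surjective x
        obtain ⟨y, rfl⟩ := QuotientGroup.mk_surjective y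
        rw [← QuotientGroup.mk_mul, ← QuotientGroup.mk_mul]
        congr 1
        exact Subtype.ext (hab x x.2 y y.2) }
  have hne : (a : Y ⧸ L) ≠ 1 := by
    intro h
    have h' : a ∈ L := (QuotientGroup.eq_one_iff a).1 h
    exact hcon h'
  obtain ⟨m, hm⟩ := CommGroup.exists_apply_ne_one_of_hasEnoughRootsOfUnity (Y ⧸ L) ℂ hne
  apply hm
  exact h (m.comp (QuotientGroup.mk' L)) (by
    intro y hy
    have : (QuotientGroup.mk' L) y = 1 := (QuotientGroup.eq_one_iff _).2 hy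
    rw [MonoidHom.comp_apply, this, map_one])

theorem Min.psub (M : Min p Z Y K l) {C : Subgroup G} (hC : C.Normal) (hZC : Z ≤ C)
    (h : ∀ S : Subgroup G, IsPGroup p S → S ≤ C) : C = ⊤ := by
  haveI := center_normal Z M.cen
  by_contra hne
  apply M.not
  rw [AbP.iff]
  intro S hS
  exact M.low C hC hZC hne S (h S hS) hS

theorem Min.zn (M : Min p Z Y K l) : Z.Normal := center_normal Z M.cen

/-- the kernel of `G` on the dual is `Y` -/
theorem Min.ker (M : Min p Z Y K l) [Y.Normal] (g : G) :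
    (∀ v ∈ tr Z Y, cj g v = v) ↔ g ∈ Y := by
  haveI := M.zn
  constructor
  · intro h
    apply M.cent
    intro y hy
    have h1 : ((MulAut.conjNormal g (⟨y, hy⟩ : Y) * (⟨y, hy⟩ : Y)⁻¹ : Y) : G) ∈ Z := by
      apply sep_tr M.zn M.abY
      intro v hv
      rw [map_mul, (cj_eq_iff g v).1 (h v hv), map_inv, mul_inv_cancel]
    exact h1
  · intro hg v _
    exact cj_of_mem M.abY hg v

theorem Min.exists_mem_not (M : Min p Z Y K l) {T : Subgroup G} (hT : ¬ p ∣ T.index) :
    ∃ g ∈ T, g ∉ K := by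
  by_contra hcon
  push Not at hcon
  apply hT
  rw [← M.idx]
  exact Subgroup.index_dvd_of_le hcon

theorem Min.K_ne_top (M : Min p Z Y K l) : K ≠ ⊤ := by
  intro h
  have := M.idx
  rw [h, Subgroup.index_top] at this
  exact hp.out.one_lt.ne this

/-- extensions of `l` have stabilizers of index prime to `p` -/
theorem Min.relY (M : Min p Z Y K l) [Y.Normal] (lam : Y →* ℂˣ)
    (h : ∀ z (hz : z ∈ Z), lam ⟨z, M.ZY hz⟩ = l ⟨z, hz⟩) : RelP p Y.subtype (lf lam) := by
  haveI := M.zn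
  refine M.rel.up Z (isIrr_lf l) (charDegree_lf l) Y M.ZY (isIrr_lf lam) ?_
  have hcY : ∀ n, Subgroup.inclusion M.ZY n ∈ Subgroup.center Y := by
    intro n
    rw [Subgroup.mem_center_iff]
    intro g
    exact Subtype.ext (Subgroup.mem_center_iff.1 (M.cen n.2) (g : G))
  rw [over_lin_iff _ hcY (isIrr_lf lam)]
  intro n
  rw [lf_apply, lf_apply, map_one, Units.val_one, one_mul]
  exact congrArg Units.val (h n n.2)

theorem Min.idxT (M : Min p Z Y K l) [Y.Normal] (lam : Y →* ℂˣ)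
    (h : ∀ z (hz : z ∈ Z), lam ⟨z, M.ZY hz⟩ = l ⟨z, hz⟩) : ¬ p ∣ (inertia Y (lf lam)).index :=
  (M.relY lam h).not_dvd_index Y (isIrr_lf lam)

theorem Min.exists_mu (M : Min p Z Y K l) [Y.Normal] :
    ∃ μ : Y →* ℂˣ, (∀ z (hz : z ∈ Z), μ ⟨z, M.ZY hz⟩ = l ⟨z, hz⟩) ∧ ∀ g : G, cj g μ = μ := by
  obtain ⟨m, hm⟩ := M.ext
  obtain ⟨k, hk⟩ := M.pY
  obtain ⟨μ, h1, h2⟩ := exists_fixed M.cen M.ZY M.YK M.abY hk M.pK m
  have h3 : ∀ z (hz : z ∈ Z), μ ⟨z, M.ZY hz⟩ = l ⟨z, hz⟩ := by
    intro z hz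
    rw [h1 _ hz, hm]
  refine ⟨μ, h3, ?_⟩
  have h4 := M.idxT μ h3
  have h5 : K ≤ inertia Y (lf μ) := fun g hg => (mem_inertia_iff_cj g μ).2 (h2 g hg)
  have h6 : (inertia Y (lf μ)).index ∣ p := by
    rw [← M.idx]
    exact Subgroup.index_dvd_of_le h5
  have h7 : (inertia Y (lf μ)).index = 1 := by
    rcases (Nat.dvd_prime hp.out).1 h6 with h | h
    · exact h
    · exact absurd (h ▸ dvd_rfl) h4
  intro g
  rw [← mem_inertia_iff_cj, Subgroup.index_eq_one.1 h7]
  trivial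

/-- every element of the dual is fixed by an element outside `K` -/
theorem Min.P1 (M : Min p Z Y K l) [Y.Normal] {v : Y →* ℂˣ} (hv : v ∈ tr Z Y) :
    ∃ g, g ∉ K ∧ cj g v = v := by
  obtain ⟨μ, h1, h2⟩ := M.exists_mu
  have h3 : ∀ z (hz : z ∈ Z), (μ * v) ⟨z, M.ZY hz⟩ = l ⟨z, hz⟩ := by
    intro z hz
    rw [MonoidHom.mul_apply, h1, hv _ hz, mul_one]
  obtain ⟨g, hg, hgK⟩ := M.exists_mem_not (M.idxT _ h3)
  refine ⟨g, hgK, ?_⟩
  rw [mem_inertia_iff_cj, cj_hom_mul, h2] at hg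
  exact mul_left_cancel hg

theorem Min.gen (M : Min p Z Y K l) {T : Subgroup G} (hT : T.Normal) (hYT : Y ≤ T)
    (hTK : ¬ T ≤ K) : T = ⊤ := by
  haveI := M.nK
  have h1 : K ⊔ T = ⊤ := by
    have h2 : (K ⊔ T).index ∣ p := by
      rw [← M.idx]
      exact Subgroup.index_dvd_of_le le_sup_left
    rcases (Nat.dvd_prime hp.out).1 h2 with h | h
    · exact Subgroup.index_eq_one.1 h
    · exfalso
      apply hTK
      have h3 : K.relIndex (K ⊔ T) * (K ⊔ T).index = K.index :=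
        Subgroup.relIndex_mul_index le_sup_left
      rw [h, M.idx] at h3
      have h4 : K.relIndex (K ⊔ T) = 1 := Nat.eq_of_mul_eq_mul_right hp.out.pos (by rw [h3, one_mul])
      exact le_sup_right.trans (Subgroup.relIndex_eq_one.1 h4)
  have h2 : ¬ p ∣ T.index := by
    intro hd
    apply M.pK
    have h3 : T.index = T.relIndex K := by
      rw [← Subgroup.relIndex_top_right T, ← h1]
      exact Subgroup.relIndex_sup_right _ _
    rw [h3] at hd
    exact hd.trans (Subgroup.relIndex_dvd_of_le_left K hYT)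
  exact M.psub hT (M.ZY.trans hYT) fun S hS => mem_of_not_dvd_index hT h2 hS

/-- a stable subgroup of the dual with nontrivial annihilator is centralized -/
theorem Min.fix_of_ann (M : Min p Z Y K l) [Y.Normal] {W : Subgroup (Y →* ℂˣ)} (hW : W ≤ tr Z Y)
    (hst : ∀ g : G, ∀ w ∈ W, cj g w ∈ W) (a : Y) (ha : (a : G) ∉ Z) (haW : ∀ w ∈ W, w a = 1) :
    ∀ g : G, ∀ w ∈ W, cj g w = w := by
  classical
  haveI := M.zn
  have hYn : Y.Normal := inferInstance
  let A : Subgroup G :=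
    { carrier := {y | ∃ h : y ∈ Y, ∀ w ∈ W, w ⟨y, h⟩ = 1}
      one_mem' := ⟨one_mem _, fun w _ => map_one w⟩
      mul_mem' := by
        rintro a b ⟨ha, h1⟩ ⟨hb, h2⟩
        refine ⟨mul_mem ha hb, fun w hw => ?_⟩
        have : (⟨a * b, mul_mem ha hb⟩ : Y) = ⟨a, ha⟩ * ⟨b, hb⟩ := rfl
        rw [this, map_mul, h1 w hw, h2 w hw, mul_one]
      inv_mem' := by
        rintro a ⟨ha, h1⟩
        refine ⟨inv_mem ha, fun w hw => ?_⟩
        have : (⟨a⁻¹, inv_mem ha⟩ : Y) = (⟨a, ha⟩ : Y)⁻¹ := rfl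
        rw [this, map_inv, h1 w hw, inv_one] }
  have hAn : A.Normal := by
    constructor
    rintro y ⟨hy, h1⟩ g
    refine ⟨hYn.conj_mem y hy g, fun w hw => ?_⟩
    have h2 := h1 (cj g⁻¹ w) (hst _ w hw)
    rw [cj_apply, inv_inv] at h2
    exact h2
  have hAY : A ≤ Y := fun y hy => hy.1
  have hZA : Z < A := by
    refine lt_of_le_of_ne (fun z hz => ⟨M.ZY hz, fun w hw => hW hw _ hz⟩) ?_
    intro h
    apply ha
    rw [h]
    exact ⟨a.2, haW⟩
  have hup := M.up A hAn hZA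
  let C : Subgroup G :=
    { carrier := {g | ∀ w ∈ W, cj g w = w}
      one_mem' := fun w _ => cj_one w
      mul_mem' := by
        intro a b ha hb w hw
        rw [cj_mul, hb w hw, ha w hw]
      inv_mem' := by
        intro a ha w hw
        conv_lhs => rw [← ha w hw]
        rw [← cj_mul, inv_mul_cancel, cj_one] }
  have hCn : C.Normal := by
    constructor
    intro c hc g w hw
    rw [cj_mul, cj_mul, hc _ (hst g⁻¹ w hw), ← cj_mul, mul_inv_cancel, cj_one]
  have hZC : Z ≤ C := fun z hz w _ => cj_of_mem M.abY (M.ZY hz) w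
  have hC : C = ⊤ := by
    refine M.psub hCn hZC ?_
    intro S hS s hs w hw
    rw [cj_eq_iff]
    intro y
    -- commutators lie in `A`
    have hrel : ∃ k, A.relIndex (Y ⊔ S) = p ^ k := by
      obtain ⟨k, hk⟩ := M.pY
      obtain ⟨j, hj⟩ := IsPGroup.iff_card.1 hS
      have h1 : Z.relIndex (Y ⊔ S) = Z.relIndex Y * Y.relIndex (Y ⊔ S) :=
        (Subgroup.relIndex_mul_relIndex Z Y (Y ⊔ S) M.ZY le_sup_left).symm
      have h2 : Y.relIndex (Y ⊔ S) ∣ p ^ j := by
        rw [sup_comm, Subgroup.relIndex_sup_right, ← hj]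
        exact Subgroup.relIndex_dvd_card Y S
      have h3 : A.relIndex (Y ⊔ S) ∣ p ^ (k + j) := by
        rw [pow_add]
        refine (Subgroup.relIndex_dvd_of_le_left _ hZA.le).trans ?_
        rw [h1, hk]
        exact mul_dvd_mul_left _ h2
      obtain ⟨i, -, hi⟩ := (Nat.dvd_prime_pow hp.out).1 h3
      exact ⟨i, hi⟩
    obtain ⟨h4, h5⟩ := hup (Y ⊔ S) (hAY.trans le_sup_left) hrel s (Subgroup.mem_sup_right hs) y
      (Subgroup.mem_sup_left y.2)
    have h6 := h5 w hw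
    have h7 : (⟨⁅s, (y : G)⁆, h4⟩ : Y) = MulAut.conjNormal s y * y⁻¹ := Subtype.ext rfl
    rw [h7, map_mul, map_inv, mul_inv_eq_one] at h6
    exact h6
  intro g
  have : g ∈ C := by rw [hC]; trivial
  exact this

/-- duality: a subgroup of the dual whose annihilator is `Z` is everything -/
theorem eq_tr_of_ann [Y.Normal] (hZ : Z.Normal)
    (hab : ∀ a ∈ Y, ∀ b ∈ Y, a * b = b * a) {W : Subgroup (Y →* ℂˣ)} (hW : W ≤ tr Z Y)
    (h : ∀ a : Y, (∀ w ∈ W, w a = 1) → (a : G) ∈ Z) : W = tr Z Y := by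
  classical
  haveI : Finite (Y →* ℂˣ) := Cfsg.Agent.Blocks.SemiregularGram.finite_hom Y
  let L := Z.subgroupOf Y
  letI : CommGroup (Y ⧸ L) :=
    { (inferInstance : Group (Y ⧸ L)) with
      mul_comm := by
        intro x y
        obtain ⟨x, rfl⟩ := QuotientGroup.mk_surjective x
        obtain ⟨y, rfl⟩ := QuotientGroup.mk_surjective y
        rw [← QuotientGroup.mk_mul, ← QuotientGroup.mk_mul]
        congr 1
        exact Subtype.ext (hab x x.2 y y.2) }
  haveI : Finite ((Y ⧸ L) →* ℂˣ) := Cfsg.Agent.Blocks.SemiregularGram.finite_hom _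
  haveI : Finite (W →* ℂˣ) := Cfsg.Agent.Blocks.SemiregularGram.finite_hom _
  -- `|tr Z Y| ≤ |Y / Z|`
  have h1 : Nat.card (tr Z Y) ≤ Nat.card (Y ⧸ L) := by
    rw [← CommGroup.card_monoidHom_of_hasEnoughRootsOfUnity (Y ⧸ L) ℂ]
    let F : tr Z Y → ((Y ⧸ L) →* ℂˣ) := fun v => QuotientGroup.lift L v.1 (fun y hy => v.2 y hy)
    refine Nat.card_le_card_of_injective F ?_
    intro v w hvw
    apply Subtype.ext
    ext y
    have := congrArg (fun f : (Y ⧸ L) →* ℂˣ => f (y : Y ⧸ L)) hvw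
    exact congrArg Units.val this
  -- `|Y / Z| ≤ |W|`
  have h2 : Nat.card (Y ⧸ L) ≤ Nat.card W := by
    rw [← CommGroup.card_monoidHom_of_hasEnoughRootsOfUnity W ℂ]
    let E : Y →* (W →* ℂˣ) :=
      { toFun := fun y => { toFun := fun w => w.1 y, map_one' := rfl, map_mul' := fun _ _ => rfl }
        map_one' := by ext w; simp
        map_mul' := by intro a b; ext w; simp }
    have hE : ∀ y w, E y w = w.1 y := fun _ _ => rfl
    let F : (Y ⧸ L) →* (W →* ℂˣ) := QuotientGroup.lift L E (by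
      intro y hy
      ext w
      rw [hE, hW w.2 y hy]
      rfl)
    refine Nat.card_le_card_of_injective F ?_
    rw [injective_iff_map_eq_one]
    intro x hx
    obtain ⟨y, rfl⟩ := QuotientGroup.mk_surjective x
    have h3 : (y : G) ∈ Z := by
      apply h
      intro w hw
      have := congrArg (fun f : W →* ℂˣ => f ⟨w, hw⟩) hx
      exact this
    exact (QuotientGroup.eq_one_iff y).2 h3
  have h3 : Nat.card (tr Z Y) ≤ Nat.card W := h1.trans h2
  exact SetLike.coe_injective (Set.eq_of_subset_of_ncard_le hW (by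
    rw [← Nat.card_coe_set_eq, ← Nat.card_coe_set_eq]; exact h3) (Set.toFinite _))

end Cfsg.Agent.H586.GW
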