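import Mathlib
import Cfsg.Agent.H586.GW.MinLem

/-!
# Gluck-Wolf: the dual module of a minimal counterexample is irreducible
-/

set_option autoImplicit false
set_option linter.style.haveILetI false
set_option linter.unusedSectionVars false
open Cfsg

namespace Cfsg.Agent.H586.GW

open Cfsg.Agent.Characters.Core Cfsg.Agent.Characters.Clifford Cfsg.Agent.H672
open scoped commutatorElement

universe u

variable {p : ℕ} [hp : Fact p.Prime] {G : Type u} [Group G] [Finite G] {Z Y K : Subgroup G}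
  {l : Z →* ℂˣ}

section norm
variable [hY : Y.Normal] (hab : ∀ a ∈ Y, ∀ b ∈ Y, a * b = b * a) (K)

/-- the conjugates of `v` under `K / Y` -/
def cq (v : Y →* ℂˣ) : K ⧸ Y.subgroupOf K → (Y →* ℂˣ) :=
  Quotient.lift (fun g : K => cj (g : G) v) (by
    intro a b hab'
    have h1 : a⁻¹ * b ∈ Y.subgroupOf K := QuotientGroup.leftRel_apply.1 hab'
    have h2 : (b : G) = a * ((a : G)⁻¹ * b) := by group
    change cj (a : G) v = cj (b : G) v
    rw [h2, cj_mul, cj_of_mem hab (show (a : G)⁻¹ * b ∈ Y from h1)])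

theorem cq_mk (v : Y →* ℂˣ) (g : K) : cq K hab v (g : K ⧸ Y.subgroupOf K) = cj (g : G) v := rfl

/-- the norm -/
noncomputable def nm (v : Y →* ℂˣ) (y : Y) : ℂˣ :=
  letI := Fintype.ofFinite (K ⧸ Y.subgroupOf K)
  ∏ q : K ⧸ Y.subgroupOf K, cq K hab v q y

theorem nm_mul (v w : Y →* ℂˣ) (y : Y) : nm K hab (v * w) y = nm K hab v y * nm K hab w y := by
  letI := Fintype.ofFinite (K ⧸ Y.subgroupOf K)
  unfold nm
  rw [← Finset.prod_mul_distrib]
  refine Finset.prod_congr rfl fun q _ => ?_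
  obtain ⟨x, rfl⟩ := QuotientGroup.mk_surjective q
  rfl

theorem nm_one (y : Y) : nm K hab 1 y = 1 := by
  letI := Fintype.ofFinite (K ⧸ Y.subgroupOf K)
  unfold nm
  refine Finset.prod_eq_one fun q _ => ?_
  obtain ⟨x, rfl⟩ := QuotientGroup.mk_surjective q
  rfl

theorem nm_inv (v : Y →* ℂˣ) (y : Y) : nm K hab v⁻¹ y = (nm K hab v y)⁻¹ := by
  have h := nm_mul K hab v v⁻¹ y
  have e : v * v⁻¹ = 1 := by ext y; simp
  rw [e, nm_one] at h
  exact eq_inv_of_mul_eq_one_right h.symm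

theorem nm_cj (v : Y →* ℂˣ) (y : Y) {g : G} (hg : g ∈ K) : nm K hab (cj g v) y = nm K hab v y := by
  letI := Fintype.ofFinite (K ⧸ Y.subgroupOf K)
  unfold nm
  refine Fintype.prod_equiv (Equiv.mulRight ((⟨g, hg⟩ : K) : K ⧸ Y.subgroupOf K)) _ _ fun q => ?_
  obtain ⟨x, rfl⟩ := QuotientGroup.mk_surjective q
  rw [cq_mk, ← cj_mul]
  rfl

theorem nm_fixed (v : Y →* ℂˣ) (y : Y) (h : ∀ g ∈ K, cj g v = v) :
    nm K hab v y = v y ^ Y.relIndex K := by
  letI := Fintype.ofFinite (K ⧸ Y.subgroupOf K)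
  unfold nm
  rw [Finset.prod_congr rfl (g := fun _ => v y), Finset.prod_const, Finset.card_univ,
    ← Nat.card_eq_fintype_card]
  · rfl
  · intro q _
    obtain ⟨x, rfl⟩ := QuotientGroup.mk_surjective q
    rw [cq_mk, h x x.2]

end norm

section
variable [hY : Y.Normal]

theorem Min.eq_one_of_pow (M : Min p Z Y K l) {v : Y →* ℂˣ} (hv : v ∈ tr Z Y) (y : Y) {b : ℕ}
    (hb : ¬ p ∣ b) (h : v y ^ b = 1) : v y = 1 := by
  haveI := M.zn
  obtain ⟨k, hk⟩ := M.pY
  have h2 : v y ^ p ^ k = 1 := by rw [← hk]; exact tr_pow M.zn hv y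
  have hcop : Nat.Coprime b (p ^ k) :=
    Nat.Coprime.pow_right _ ((Nat.Prime.coprime_iff_not_dvd hp.out).2 hb).symm
  have h4 := pow_gcd_eq_one.2 ⟨h, h2⟩
  rwa [hcop.gcd_eq_one, pow_one] at h4

theorem Min.comm_eq (M : Min p Z Y K l) :
    Subgroup.closure {x : Y →* ℂˣ | ∃ k ∈ K, ∃ v ∈ tr Z Y, x = cj k v * v⁻¹} = tr Z Y := by
  classical
  haveI := M.zn
  haveI := M.nK
  set W := Subgroup.closure {x : Y →* ℂˣ | ∃ k ∈ K, ∃ v ∈ tr Z Y, x = cj k v * v⁻¹} with hWdef
  have hW : W ≤ tr Z Y := by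
    rw [hWdef, Subgroup.closure_le]
    rintro _ ⟨k, -, v, hv, rfl⟩
    exact mul_mem (cj_mem_tr M.zn k hv) (inv_mem hv)
  have hst : ∀ g : G, ∀ w ∈ W, cj g w ∈ W := by
    intro g w hw
    induction hw using Subgroup.closure_induction with
    | mem x hx =>
      obtain ⟨k, hk, v, hv, rfl⟩ := hx
      apply Subgroup.subset_closure
      refine ⟨g * k * g⁻¹, M.nK.conj_mem k hk g, cj g v, cj_mem_tr M.zn g hv, ?_⟩
      rw [cj_hom_mul, cj_hom_inv, ← cj_mul, ← cj_mul]
      congr 2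
      group
    | one => rw [cj_hom_one]; exact one_mem _
    | mul x y _ _ hx hy => rw [cj_hom_mul]; exact mul_mem hx hy
    | inv x _ hx => rw [cj_hom_inv]; exact inv_mem hx
  by_contra hne
  obtain ⟨a, haW, haZ⟩ : ∃ a : Y, (∀ w ∈ W, w a = 1) ∧ (a : G) ∉ Z := by
    by_contra hcon
    push Not at hcon
    exact hne (eq_tr_of_ann M.zn M.abY hW hcon)
  have hfix := M.fix_of_ann hW hst a haZ haW
  -- `K` acts trivially
  have hK : ∀ k ∈ K, ∀ v ∈ tr Z Y, cj k v = v := by
    intro k hk v hv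
    set w := cj k v * v⁻¹ with hw
    have hwW : w ∈ W := Subgroup.subset_closure ⟨k, hk, v, hv, rfl⟩
    have h1 : cj k v = v * w := by
      ext y
      rw [hw]
      change _ = ((v y * (cj k v y * (v y)⁻¹) : ℂˣ) : ℂ)
      rw [mul_comm (cj k v y), mul_inv_cancel_left]
    have h2 : ∀ i : ℕ, ∀ y, cj (k ^ i) v y = v y * w y ^ i := by
      intro i
      induction i with
      | zero => intro y; simp [cj_one]
      | succ i ih =>
        intro y
        have h3 : cj (k ^ (i + 1)) v = cj k (cj (k ^ i) v) := by rw [pow_succ', cj_mul]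
        have h4 : cj (k ^ i) v = v * w ^ i := by
          ext y
          rw [ih y]
          rfl
        rw [h3, h4, cj_hom_mul, cj_hom_pow, hfix k w hwW, h1]
        change v y * w y * w y ^ i = _
        rw [pow_succ', mul_assoc]
    have h3 : k ^ Y.relIndex K ∈ Y := by
      have : (⟨k, hk⟩ : K) ^ (Y.subgroupOf K).index ∈ Y.subgroupOf K := Subgroup.pow_index_mem _ _
      exact this
    have h4 : w = 1 := by
      ext y
      have h5 := h2 (Y.relIndex K) y
      rw [cj_of_mem M.abY h3] at h5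
      have h6 : w y ^ Y.relIndex K = 1 := by
        have : v y * 1 = v y * w y ^ Y.relIndex K := by rw [mul_one]; exact h5
        exact (mul_left_cancel this).symm
      rw [M.eq_one_of_pow (hW hwW) y M.pK h6]
      rfl
    rw [h1, h4]
    ext y
    simp
  have hKY : K ≤ Y := fun k hk => (M.ker k).1 (hK k hk)
  have hKYe : K = Y := le_antisymm hKY M.YK
  apply M.K_ne_top
  rw [eq_top_iff]
  intro g _
  apply M.YK
  rw [← M.ker g]
  intro v hv
  let S : Subgroup G :=
    { carrier := {g | cj g v = v}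
      one_mem' := cj_one v
      mul_mem' := by
        intro a b ha hb
        change cj a v = v at ha
        change cj b v = v at hb
        change cj (a * b) v = v
        rw [cj_mul, hb, ha]
      inv_mem' := by
        intro a ha
        change cj a v = v at ha
        change cj a⁻¹ v = v
        conv_lhs => rw [← ha]
        rw [← cj_mul, inv_mul_cancel, cj_one] }
  have hKS : K ≤ S := fun k hk => hK k hk v hv
  obtain ⟨x, hxK, hx⟩ := M.P1 hv
  have h1 : S.index ∣ p := by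
    rw [← M.idx]
    exact Subgroup.index_dvd_of_le hKS
  have h2 : S = ⊤ := by
    rcases (Nat.dvd_prime hp.out).1 h1 with h | h
    · exact Subgroup.index_eq_one.1 h
    · exfalso
      apply hxK
      have h3 : K.relIndex S * S.index = K.index := Subgroup.relIndex_mul_index hKS
      rw [h, M.idx] at h3
      have h4 : K.relIndex S = 1 := Nat.eq_of_mul_eq_mul_right hp.out.pos (by rw [h3, one_mul])
      exact Subgroup.relIndex_eq_one.1 h4 hx
  have : g ∈ S := by rw [h2]; trivial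
  exact this

theorem Min.eq_one_of_fixed (M : Min p Z Y K l) {v : Y →* ℂˣ} (hv : v ∈ tr Z Y)
    (h : ∀ g ∈ K, cj g v = v) : v = 1 := by
  classical
  haveI := M.zn
  have h1 : ∀ w ∈ Subgroup.closure {x : Y →* ℂˣ | ∃ k ∈ K, ∃ v ∈ tr Z Y, x = cj k v * v⁻¹},
      ∀ y, nm K M.abY w y = 1 := by
    intro w hw
    induction hw using Subgroup.closure_induction with
    | mem x hx =>
      intro y
      obtain ⟨k, hk, v, hv, rfl⟩ := hx
      rw [nm_mul, nm_inv, nm_cj K M.abY v y hk, mul_inv_cancel]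
    | one => intro y; rw [nm_one]
    | mul x y _ _ hx hy => intro z; rw [nm_mul, hx, hy, one_mul]
    | inv x _ hx => intro z; rw [nm_inv, hx, inv_one]
  rw [M.comm_eq] at h1
  ext y
  have h2 := h1 v hv y
  rw [nm_fixed K M.abY v y h] at h2
  rw [M.eq_one_of_pow hv y M.pK h2]
  rfl

theorem Min.irr (M : Min p Z Y K l) {W : Subgroup (Y →* ℂˣ)} (hW : W ≤ tr Z Y)
    (hst : ∀ g : G, ∀ w ∈ W, cj g w ∈ W) : W = ⊥ ∨ W = tr Z Y := by
  haveI := M.zn
  by_cases h : ∀ a : Y, (∀ w ∈ W, w a = 1) → (a : G) ∈ Z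
  · exact Or.inr (eq_tr_of_ann M.zn M.abY hW h)
  · push Not at h
    obtain ⟨a, haW, haZ⟩ := h
    left
    rw [eq_bot_iff]
    intro w hw
    rw [Subgroup.mem_bot]
    exact M.eq_one_of_fixed (hW hw) fun g _ => M.fix_of_ann hW hst a haZ haW g w hw

theorem Min.nt (M : Min p Z Y K l) : Nontrivial (tr Z Y) := by
  rw [Subgroup.nontrivial_iff_ne_bot]
  intro h
  apply M.K_ne_top
  rw [eq_top_iff]
  intro g _
  apply M.YK
  rw [← M.ker g]
  intro v hv
  rw [h, Subgroup.mem_bot] at hv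
  rw [hv, cj_hom_one]

theorem Min.exp (M : Min p Z Y K l) {v : Y →* ℂˣ} (hv : v ∈ tr Z Y) (y : Y) : v y ^ p = 1 := by
  classical
  haveI := M.zn
  haveI := M.nt
  haveI : Finite (Y →* ℂˣ) := Cfsg.Agent.Blocks.SemiregularGram.finite_hom Y
  let W : Subgroup (Y →* ℂˣ) :=
    { carrier := {v | v ∈ tr Z Y ∧ ∀ y, v y ^ p = 1}
      one_mem' := ⟨one_mem _, fun y => one_pow _⟩
      mul_mem' := by
        rintro a b ⟨ha, h1⟩ ⟨hb, h2⟩
        refine ⟨mul_mem ha hb, fun y => ?_⟩
        rw [MonoidHom.mul_apply, mul_pow, h1, h2, one_mul]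
      inv_mem' := by
        rintro a ⟨ha, h1⟩
        refine ⟨inv_mem ha, fun y => ?_⟩
        rw [MonoidHom.inv_apply, inv_pow, h1, inv_one] }
  have hW : W ≤ tr Z Y := fun v hv => hv.1
  have hst : ∀ g : G, ∀ w ∈ W, cj g w ∈ W := by
    rintro g w ⟨hw, h1⟩
    exact ⟨cj_mem_tr M.zn g hw, fun y => by rw [cj_apply, h1]⟩
  rcases M.irr hW hst with h | h
  · exfalso
    obtain ⟨k, hk⟩ := M.pY
    have hpg : IsPGroup p (tr Z Y) := by
      intro v
      refine ⟨k, ?_⟩
      apply Subtype.ext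
      ext y
      have h1 : ∀ n : ℕ, ((v ^ n : tr Z Y) : Y →* ℂˣ) y = (v : Y →* ℂˣ) y ^ n := by
        intro n
        induction n with
        | zero => rw [pow_zero, pow_zero]; rfl
        | succ n ih => rw [pow_succ, pow_succ, Subgroup.coe_mul, MonoidHom.mul_apply, ih]
      rw [h1, ← hk, tr_pow M.zn v.2 y]
      rfl
    have h4 : p ∣ Nat.card (tr Z Y) := hpg.card_eq_or_dvd.resolve_left Finite.one_lt_card.ne'
    obtain ⟨x, hx⟩ := exists_prime_orderOf_dvd_card' p h4
    have h5 : x ^ p = 1 := by rw [← hx, pow_orderOf_eq_one]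
    have h6 : (x : Y →* ℂˣ) ∈ W := by
      refine ⟨x.2, fun y => ?_⟩
      have h7 := congrArg (fun z : tr Z Y => (z : Y →* ℂˣ) y) h5
      have h1 : ∀ n : ℕ, ((x ^ n : tr Z Y) : Y →* ℂˣ) y = (x : Y →* ℂˣ) y ^ n := by
        intro n
        induction n with
        | zero => rw [pow_zero, pow_zero]; rfl
        | succ n ih => rw [pow_succ, pow_succ, Subgroup.coe_mul, MonoidHom.mul_apply, ih]
      rw [← h1]
      exact h7
    rw [h, Subgroup.mem_bot] at h6
    have h7 : x = 1 := Subtype.ext h6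
    rw [h7, orderOf_one] at hx
    exact hp.out.one_lt.ne hx
  · have h1 : v ∈ W := by rw [h]; exact hv
    exact h1.2 y

end

end Cfsg.Agent.H586.GW
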