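import Mathlib
import Cfsg.Agent.H586.GW.CoreOf
import Cfsg.Agent.H672.RM.Final

/-!
# Gluck-Wolf: the theorem follows from the non-existence of the core situation
-/

set_option autoImplicit false
set_option linter.style.haveILetI false
set_option linter.unusedSectionVars false
open Cfsg

namespace Cfsg.Agent.H586.GW

open Cfsg.Agent.Characters.Core Cfsg.Agent.Characters.Clifford Cfsg.Agent.H672
open scoped commutatorElement

universe u

/-- The core situation does not occur. -/
def NoCore (p r : ℕ) : Prop :=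
  ∀ {H V : Type u} [Group H] [Finite H] [AddCommGroup V] [Finite V] [DistribMulAction H V]
    (K N : Subgroup H) (φ : N →* ℂˣ), ¬ Core (V := V) p r K N φ

theorem cgoal_of_noCore {p : ℕ} [hp : Fact p.Prime] (h : NoCore.{u} p p) {n : ℕ}
    (ih : ∀ k < n, Goal.{u} p k) : CGoal.{u} p n := by
  intro G _ _ Z hZ l hinj hps hn hrel
  by_contra hnot
  subst hn
  obtain ⟨Y, K, M⟩ := exists_min hZ hinj hps ih hrel hnot
  obtain ⟨H, V, _, _, _, _, _, K', N, φ, C⟩ := core_of_min M
  exact h K' N φ C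

theorem goal_of_noCore {p : ℕ} [hp : Fact p.Prime] (h : NoCore.{u} p p) (n : ℕ) :
    Goal.{u} p n := by
  induction n using Nat.strong_induction_on with
  | _ n ih => exact goal_of_cgoal ih (cgoal_of_noCore h ih)

/-- `S4900` from the core. -/
theorem s4900_of_noCore {G : Type u} [Group G] [Finite G] (Z : Subgroup G) [Z.Normal] (p : ℕ)
    [Fact p.Prime] (hcore : NoCore.{u} p p)
    (hsolv : Cfsg.IsPSolvable p (G ⧸ Z)) (θ : Cfsg.IrrCharacter ↥Z) (P : Subgroup G) (hZP : Z ≤ P)
    (hPZ : ∃ a : ℕ, Z.relIndex P = p ^ a)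
    (h : ∀ χ : Cfsg.IrrCharacter G,
      (∑ᶠ z : ↥Z, (χ : G → ℂ) z * (starRingEnd ℂ) ((θ : ↥Z → ℂ) z)) ≠ 0 →
      (Cfsg.charDegree (χ : G → ℂ)).factorization p =
        (Cfsg.charDegree (θ : ↥Z → ℂ)).factorization p) : ⁅P, P⁆ ≤ Z := by
  have hrel : RelP p Z.subtype (θ : Z → ℂ) := by
    intro χ hχ hov hd
    have h1 := h ⟨χ, hχ⟩ ((Cfsg.Agent.H672.RM.over_iff_finsum Z.subtype χ θ).1 hov)
    have h2 : charDegree (θ : Z → ℂ) ≠ 0 := (charDegree_pos θ.2).ne'
    have h3 : charDegree χ ≠ 0 := (charDegree_pos hχ).ne'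
    have hp : p.Prime := Fact.out
    have h4 := (Nat.factorization_le_iff_dvd (mul_ne_zero hp.ne_zero h2) h3).2 hd p
    rw [Nat.factorization_mul hp.ne_zero h2, Finsupp.add_apply, hp.factorization_self] at h4
    change _ ≤ (charDegree χ).factorization p at h4
    change (charDegree χ).factorization p = _ at h1
    omega
  have h1 := goal_of_noCore hcore Z.index Z θ θ.2 hsolv rfl hrel
  rw [Subgroup.commutator_le]
  intro a ha b hb
  exact h1 P hZP hPZ a ha b hb

end Cfsg.Agent.H586.GW
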