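import Mathlib

/-!
# Primitive groups all of whose set stabilizers contain a `p`-element, `p` odd
-/

set_option autoImplicit false
set_option linter.style.haveILetI false
set_option linter.unusedSectionVars false

namespace Cfsg.Agent.H586.GW

open MulAction
open scoped commutatorElement

/-- The direction of S3513 which is used. -/
def S3513Stmt : Prop :=
  ∀ (n : ℕ) (H : Subgroup (Equiv.Perm (Fin n))), MulAction.IsPreprimitive H (Fin n) →
    ∀ p : ℕ, p.Prime → p ∣ Nat.card H →
    (∀ s : Set (Fin n), ¬ p ∣ Nat.card {t : Set (Fin n) // ∃ h ∈ H, t = h '' s}) →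
    ((alternatingGroup (Fin n) ≤ H ∧ ∃ a s : ℕ, 1 ≤ s ∧ 1 ≤ a ∧ a ≤ p - 1 ∧ n + 1 = a * p ^ s ∧ ¬ (a = 1 ∧ s = 1) ∧
        ¬ (n = 3 ∧ p = 2 ∧ H = alternatingGroup (Fin n))) ∨
     (n = 8 ∧ p = 3 ∧ (Nat.card H = 1344 ∨ (Nat.card H = 168 ∧ Group.IsSolvable H))) ∨
     (n = 5 ∧ p = 2 ∧ Nat.card H = 10))

section idx
variable {H : Type*} [Group H] [Finite H] {p : ℕ} [hp : Fact p.Prime] {K : Subgroup H}

theorem orderOf_mk_eq (hK : K.Normal) (hidx : K.index = p) {g : H} (hg : g ∉ K) :
    orderOf (QuotientGroup.mk g : H ⧸ K) = p := by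
  have h1 : orderOf (QuotientGroup.mk g : H ⧸ K) ∣ p := by
    rw [← hidx, Subgroup.index]
    exact orderOf_dvd_natCard _
  rcases (Nat.dvd_prime hp.out).1 h1 with h | h
  · rw [orderOf_eq_one_iff, QuotientGroup.eq_one_iff] at h
    exact absurd h hg
  · exact h

theorem pow_mem_iff (hK : K.Normal) (hidx : K.index = p) {g : H} (hg : g ∉ K) (n : ℕ) :
    g ^ n ∈ K ↔ p ∣ n := by
  rw [← orderOf_mk_eq hK hidx hg, orderOf_dvd_iff_pow_eq_one, ← QuotientGroup.mk_pow,
    QuotientGroup.eq_one_iff]

theorem dvd_card_of_notMem (hK : K.Normal) (hidx : K.index = p) {g : H} (hg : g ∉ K) {S : Subgroup H}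
    (hS : g ∈ S) : p ∣ Nat.card S := by
  have h1 : orderOf g ∣ Nat.card S := by
    have := orderOf_dvd_natCard (⟨g, hS⟩ : S)
    rwa [Subgroup.orderOf_mk] at this
  have h2 : orderOf (QuotientGroup.mk g : H ⧸ K) ∣ orderOf g :=
    orderOf_map_dvd (QuotientGroup.mk' K) g
  rw [orderOf_mk_eq hK hidx hg] at h2
  exact h2.trans h1

theorem not_dvd_index (hK : K.Normal) (hidx : K.index = p) (hcop : ¬ p ∣ Nat.card K) {S : Subgroup H}
    {g : H} (hg : g ∉ K) (hS : g ∈ S) : ¬ p ∣ S.index := by
  intro h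
  have h1 := dvd_card_of_notMem hK hidx hg hS
  have h2 := S.card_mul_index
  have h3 := K.card_mul_index
  rw [hidx, ← h2] at h3
  have h4 : p * p ∣ Nat.card K * p := by
    rw [h3]; exact mul_dvd_mul h1 h
  exact hcop (Nat.dvd_of_mul_dvd_mul_right hp.out.pos h4)

/-- The `p`-part of an element outside `K`. -/
theorem pow_card_notMem (hK : K.Normal) (hidx : K.index = p) (hcop : ¬ p ∣ Nat.card K) {g : H}
    (hg : g ∉ K) : g ^ Nat.card K ∉ K ∧ (g ^ Nat.card K) ^ p = 1 := by
  refine ⟨fun h => hcop ((pow_mem_iff hK hidx hg _).1 h), ?_⟩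
  rw [← pow_mul, mul_comm, pow_mul]
  have h1 : g ^ p ∈ K := (pow_mem_iff hK hidx hg p).2 dvd_rfl
  have h2 : (⟨g ^ p, h1⟩ : K) ^ Nat.card K = 1 := pow_card_eq_one'
  exact congrArg Subtype.val h2

end idx

section main
variable {H : Type*} [Group H] [Finite H] {B : Type*} [Finite B] [MulAction H B] {p : ℕ} [hp : Fact p.Prime]
  {K : Subgroup H}

/-- The degree is `8` and `p = 3`. -/
theorem colour_two (h3513 : S3513Stmt) (hp2 : p ≠ 2) (hprim : IsPreprimitive H B)
    (hK : K.Normal) (hidx : K.index = p) (hcop : ¬ p ∣ Nat.card K)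
    (hker : ∀ g : H, (∀ b : B, g • b = b) → g ∈ K)
    (h2 : ∀ Δ : Set B, ∃ g : H, g ∉ K ∧ ∀ b, g • b ∈ Δ ↔ b ∈ Δ) :
    p = 3 ∧ Nat.card B = 8 ∧ 7 ∣ (MulAction.toPermHom H B).ker.index := by
  classical
  obtain ⟨n, ⟨e⟩⟩ := Finite.exists_equiv_fin B
  let φ : H →* Equiv.Perm (Fin n) := (e.permCongrHom.toMonoidHom).comp (MulAction.toPermHom H B)
  have hφ : ∀ h i, φ h i = e (h • e.symm i) := fun h i => rfl
  have hφB : ∀ h b, φ h (e b) = e (h • b) := fun h b => by rw [hφ, e.symm_apply_apply]
  have hkerφ : φ.ker ≤ K := by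
    intro g hg
    apply hker
    intro b
    have h5 : φ g (e b) = e b := by rw [(MonoidHom.mem_ker).1 hg]; rfl
    rw [hφB] at h5
    exact e.injective h5
  let Γ : Subgroup (Equiv.Perm (Fin n)) := φ.range
  have hprimΓ : IsPreprimitive Γ (Fin n) := by
    let f : B →ₑ[(φ.rangeRestrict : H → Γ)] Fin n :=
      { toFun := e
        map_smul' := fun h b => (hφB h b).symm }
    exact IsPreprimitive.of_surjective (f := f) e.surjective
  have hdiv : p ∣ Nat.card Γ := by
    have h1 : Nat.card Γ = φ.ker.index := (Subgroup.index_ker φ).symm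
    rw [h1, ← hidx]
    exact Subgroup.index_dvd_of_le hkerφ
  have horb : ∀ s : Set (Fin n), ¬ p ∣ Nat.card {t : Set (Fin n) // ∃ h ∈ Γ, t = h '' s} := by
    intro s
    obtain ⟨g, hgK, hg⟩ := h2 (e ⁻¹' s)
    let A : MulAction H (Set (Fin n)) :=
      { smul := fun h t => φ h '' t
        one_smul := fun t => by
          change φ 1 '' t = t
          rw [map_one]; simp
        mul_smul := fun a b t => by
          change φ (a * b) '' t = φ a '' (φ b '' t)
          rw [map_mul, Set.image_image]; rfl }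
    have hsm : ∀ (h : H) (t : Set (Fin n)), h • t = φ h '' t := fun _ _ => rfl
    have e1 : {t : Set (Fin n) // ∃ h ∈ Γ, t = h '' s} ≃ MulAction.orbit H s := by
      refine Equiv.subtypeEquivRight fun t => ?_
      constructor
      · rintro ⟨_, ⟨h, rfl⟩, rfl⟩
        exact ⟨h, rfl⟩
      · rintro ⟨h, rfl⟩
        exact ⟨φ h, ⟨h, rfl⟩, rfl⟩
    rw [Nat.card_congr e1, Nat.card_coe_set_eq, ← MulAction.index_stabilizer]
    refine not_dvd_index hK hidx hcop hgK ?_
    rw [MulAction.mem_stabilizer_iff, hsm]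
    ext i
    simp only [Set.mem_image]
    constructor
    · rintro ⟨j, hj, rfl⟩
      have h5 := (hg (e.symm j)).2 (by simpa using hj)
      simpa [hφ] using h5
    · intro hi
      refine ⟨e (g⁻¹ • e.symm i), ?_, ?_⟩
      · have h5 := (hg (g⁻¹ • e.symm i)).1 (by simpa using hi)
        simpa using h5
      · rw [hφB, smul_inv_smul, e.apply_symm_apply]
  rcases h3513 n Γ hprimΓ p hp.out hdiv horb with ⟨hA, a, s, hs, ha, hap, hn, hne, -⟩ | ⟨hn, hp3, hc⟩ | ⟨-, hp2', -⟩
  · -- `A_n ≤ Γ`
    exfalso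
    have hp3 : 3 ≤ p := by
      have := hp.out.two_le
      omega
    have hnp : p ≤ n ∧ 5 ≤ n := by
      rcases Nat.lt_or_ge 1 s with h1 | h1
      · have h5 : p ^ 2 ≤ p ^ s := Nat.pow_le_pow_right hp.out.pos h1
        have h6 : p ^ s ≤ a * p ^ s := Nat.le_mul_of_pos_left _ ha
        have h7 : p ^ 2 = p * p := sq p
        have h8 : 3 * p ≤ p * p := Nat.mul_le_mul_right _ hp3
        omega
      · have h5 : s = 1 := by omega
        subst h5
        have h6 : 2 ≤ a := by
          by_contra hcon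
          exact hne ⟨by omega, rfl⟩
        rw [pow_one] at hn
        have h7 : 2 * p ≤ a * p := Nat.mul_le_mul_right _ h6
        omega
    have h5n : 5 ≤ Nat.card (Fin n) := by rw [Nat.card_fin]; exact hnp.2
    -- the image of `K`
    have hAK : alternatingGroup (Fin n) ≤ K.map φ := by
      have hcomm : ⁅(⊤ : Subgroup H), (⊤ : Subgroup H)⁆ ≤ K := by
        have hcyc : IsCyclic (H ⧸ K) := isCyclic_of_prime_card (p := p) (by rw [← hidx]; rfl)
        rw [Subgroup.commutator_le]
        intro x _ y _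
        rw [← QuotientGroup.eq_one_iff]
        have h5 : (QuotientGroup.mk x : H ⧸ K) * QuotientGroup.mk y = QuotientGroup.mk y * QuotientGroup.mk x :=
          (IsCyclic.commGroup (α := H ⧸ K)).mul_comm _ _
        change (QuotientGroup.mk' K) ⁅x, y⁆ = 1
        rw [map_commutatorElement, commutatorElement_eq_one_iff_mul_comm]
        exact h5
      have h6 : ⁅Γ, Γ⁆ ≤ K.map φ := by
        have h7 : Γ = (⊤ : Subgroup H).map φ := MonoidHom.range_eq_map φ
        rw [h7, ← Subgroup.map_commutator]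
        exact Subgroup.map_mono hcomm
      calc alternatingGroup (Fin n) = ⁅alternatingGroup (Fin n), alternatingGroup (Fin n)⁆ :=
            (commutator_alternatingGroup_eq_self h5n).symm
        _ ≤ ⁅Γ, Γ⁆ := Subgroup.commutator_mono hA hA
        _ ≤ K.map φ := h6
    have h7 : Nat.card (alternatingGroup (Fin n)) ∣ Nat.card K :=
      (Subgroup.card_dvd_of_le hAK).trans (Subgroup.card_map_dvd K φ)
    haveI : Nontrivial (Fin n) := Fin.nontrivial_iff_two_le.2 (by omega)
    have h8 : p ∣ 2 * Nat.card (alternatingGroup (Fin n)) := by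
      rw [two_mul_nat_card_alternatingGroup, Nat.card_perm, Nat.card_fin]
      exact (Nat.Prime.dvd_factorial hp.out).2 hnp.1
    rcases (hp.out.dvd_mul).1 h8 with h9 | h9
    · exact hp2 ((Nat.prime_dvd_prime_iff_eq hp.out Nat.prime_two).1 h9)
    · exact hcop (h9.trans h7)
  · refine ⟨hp3, by rw [Nat.card_congr e, Nat.card_fin, hn], ?_⟩
    have hk : φ.ker = (MulAction.toPermHom H B).ker := by
      ext g
      rw [MonoidHom.mem_ker, MonoidHom.mem_ker]
      constructor
      · intro h
        apply (e.permCongrHom).injective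
        rw [map_one]
        exact h
      · intro h
        change (e.permCongrHom) ((MulAction.toPermHom H B) g) = 1
        rw [h, map_one]
    rw [← hk, Subgroup.index_ker]
    rcases hc with hc | ⟨hc, -⟩
    · change 7 ∣ Nat.card Γ
      rw [hc]; decide
    · change 7 ∣ Nat.card Γ
      rw [hc]; decide
  · exact absurd hp2' hp2

/-- No primitive group has all the colour stabilizers outside a normal `p'`-subgroup of index `p`, `p` odd. -/
theorem colour_false (h3513 : S3513Stmt) (hp2 : p ≠ 2) (hprim : IsPreprimitive H B)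
    (hK : K.Normal) (hidx : K.index = p) (hcop : ¬ p ∣ Nat.card K)
    (hker : ∀ g : H, (∀ b : B, g • b = b) → g ∈ K)
    (h2 : ∀ Δ : Set B, ∃ g : H, g ∉ K ∧ ∀ b, g • b ∈ Δ ↔ b ∈ Δ)
    (h3 : p = 3 → ∀ b c d : B, b ≠ c → b ≠ d → c ≠ d →
      ∃ g : H, g ∉ K ∧ g • b = b ∧ (g • c = c ∨ g • c = d) ∧ (g • d = c ∨ g • d = d)) : False := by
  classical
  obtain ⟨n, ⟨e⟩⟩ := Finite.exists_equiv_fin B
  let φ : H →* Equiv.Perm (Fin n) := (e.permCongrHom.toMonoidHom).comp (MulAction.toPermHom H B)
  have hφ : ∀ h i, φ h i = e (h • e.symm i) := fun h i => rfl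
  have hφB : ∀ h b, φ h (e b) = e (h • b) := fun h b => by rw [hφ, e.symm_apply_apply]
  have hkerφ : φ.ker ≤ K := by
    intro g hg
    apply hker
    intro b
    have h5 : φ g (e b) = e b := by rw [(MonoidHom.mem_ker).1 hg]; rfl
    rw [hφB] at h5
    exact e.injective h5
  let Γ : Subgroup (Equiv.Perm (Fin n)) := φ.range
  have hprimΓ : IsPreprimitive Γ (Fin n) := by
    let f : B →ₑ[(φ.rangeRestrict : H → Γ)] Fin n :=
      { toFun := e
        map_smul' := fun h b => (hφB h b).symm }
    exact IsPreprimitive.of_surjective (f := f) e.surjective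
  have hdiv : p ∣ Nat.card Γ := by
    have h1 : Nat.card Γ = φ.ker.index := (Subgroup.index_ker φ).symm
    rw [h1, ← hidx]
    exact Subgroup.index_dvd_of_le hkerφ
  have horb : ∀ s : Set (Fin n), ¬ p ∣ Nat.card {t : Set (Fin n) // ∃ h ∈ Γ, t = h '' s} := by
    intro s
    obtain ⟨g, hgK, hg⟩ := h2 (e ⁻¹' s)
    let A : MulAction H (Set (Fin n)) :=
      { smul := fun h t => φ h '' t
        one_smul := fun t => by
          change φ 1 '' t = t
          rw [map_one]; simp
        mul_smul := fun a b t => by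
          change φ (a * b) '' t = φ a '' (φ b '' t)
          rw [map_mul, Set.image_image]; rfl }
    have hsm : ∀ (h : H) (t : Set (Fin n)), h • t = φ h '' t := fun _ _ => rfl
    have e1 : {t : Set (Fin n) // ∃ h ∈ Γ, t = h '' s} ≃ MulAction.orbit H s := by
      refine Equiv.subtypeEquivRight fun t => ?_
      constructor
      · rintro ⟨_, ⟨h, rfl⟩, rfl⟩
        exact ⟨h, rfl⟩
      · rintro ⟨h, rfl⟩
        exact ⟨φ h, ⟨h, rfl⟩, rfl⟩
    rw [Nat.card_congr e1, Nat.card_coe_set_eq, ← MulAction.index_stabilizer]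
    refine not_dvd_index hK hidx hcop hgK ?_
    rw [MulAction.mem_stabilizer_iff, hsm]
    ext i
    simp only [Set.mem_image]
    constructor
    · rintro ⟨j, hj, rfl⟩
      have h5 := (hg (e.symm j)).2 (by simpa using hj)
      simpa [hφ] using h5
    · intro hi
      refine ⟨e (g⁻¹ • e.symm i), ?_, ?_⟩
      · have h5 := (hg (g⁻¹ • e.symm i)).1 (by simpa using hi)
        simpa using h5
      · rw [hφB, smul_inv_smul, e.apply_symm_apply]
  rcases h3513 n Γ hprimΓ p hp.out hdiv horb with ⟨hA, a, s, hs, ha, hap, hn, hne, -⟩ | ⟨hn, hp3, hc⟩ | ⟨-, hp2', -⟩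
  · -- `A_n ≤ Γ`
    have hp3 : 3 ≤ p := by
      have := hp.out.two_le
      omega
    have hnp : p ≤ n ∧ 5 ≤ n := by
      rcases Nat.lt_or_ge 1 s with h1 | h1
      · have h5 : p ^ 2 ≤ p ^ s := Nat.pow_le_pow_right hp.out.pos h1
        have h6 : p ^ s ≤ a * p ^ s := Nat.le_mul_of_pos_left _ ha
        have h7 : p ^ 2 = p * p := sq p
        have h8 : 3 * p ≤ p * p := Nat.mul_le_mul_right _ hp3
        omega
      · have h5 : s = 1 := by omega
        subst h5
        have h6 : 2 ≤ a := by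
          by_contra hcon
          exact hne ⟨by omega, rfl⟩
        rw [pow_one] at hn
        have h7 : 2 * p ≤ a * p := Nat.mul_le_mul_right _ h6
        omega
    have h5n : 5 ≤ Nat.card (Fin n) := by rw [Nat.card_fin]; exact hnp.2
    -- the image of `K`
    have hAK : alternatingGroup (Fin n) ≤ K.map φ := by
      have hcomm : ⁅(⊤ : Subgroup H), (⊤ : Subgroup H)⁆ ≤ K := by
        have hcyc : IsCyclic (H ⧸ K) := isCyclic_of_prime_card (p := p) (by rw [← hidx]; rfl)
        rw [Subgroup.commutator_le]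
        intro x _ y _
        rw [← QuotientGroup.eq_one_iff]
        have h5 : (QuotientGroup.mk x : H ⧸ K) * QuotientGroup.mk y = QuotientGroup.mk y * QuotientGroup.mk x :=
          (IsCyclic.commGroup (α := H ⧸ K)).mul_comm _ _
        change (QuotientGroup.mk' K) ⁅x, y⁆ = 1
        rw [map_commutatorElement, commutatorElement_eq_one_iff_mul_comm]
        exact h5
      have h6 : ⁅Γ, Γ⁆ ≤ K.map φ := by
        have h7 : Γ = (⊤ : Subgroup H).map φ := MonoidHom.range_eq_map φ
        rw [h7, ← Subgroup.map_commutator]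
        exact Subgroup.map_mono hcomm
      calc alternatingGroup (Fin n) = ⁅alternatingGroup (Fin n), alternatingGroup (Fin n)⁆ :=
            (commutator_alternatingGroup_eq_self h5n).symm
        _ ≤ ⁅Γ, Γ⁆ := Subgroup.commutator_mono hA hA
        _ ≤ K.map φ := h6
    have h7 : Nat.card (alternatingGroup (Fin n)) ∣ Nat.card K :=
      (Subgroup.card_dvd_of_le hAK).trans (Subgroup.card_map_dvd K φ)
    haveI : Nontrivial (Fin n) := Fin.nontrivial_iff_two_le.2 (by omega)
    have h8 : p ∣ 2 * Nat.card (alternatingGroup (Fin n)) := by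
      rw [two_mul_nat_card_alternatingGroup, Nat.card_perm, Nat.card_fin]
      exact (Nat.Prime.dvd_factorial hp.out).2 hnp.1
    rcases (hp.out.dvd_mul).1 h8 with h9 | h9
    · exact hp2 ((Nat.prime_dvd_prime_iff_eq hp.out Nat.prime_two).1 h9)
    · exact hcop (h9.trans h7)
  · -- degree 8
    subst hn
    have hb : ∀ i j : Fin 8, i ≠ j → e.symm i ≠ e.symm j := fun i j h => e.symm.injective.ne h
    obtain ⟨g, hgK, hgb, hgc, hgd⟩ := h3 hp3 (e.symm 0) (e.symm 1) (e.symm 2) (hb _ _ (by decide))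
      (hb _ _ (by decide)) (hb _ _ (by decide))
    obtain ⟨hg1, hg3⟩ := pow_card_notMem hK hidx hcop hgK
    set g' := g ^ Nat.card K with hg'
    subst hp3
    -- the permutation
    set σ := φ g' with hσ
    have hσ1 : σ ≠ 1 := by
      intro h
      exact hg1 (hkerφ ((MonoidHom.mem_ker).2 h))
    have hσ3 : σ ^ 3 = 1 := by rw [hσ, ← map_pow, hg3, map_one]
    have hord : orderOf σ = 3 := orderOf_eq_prime hσ3 hσ1
    have hfix : ∀ k : ℕ, (φ g ^ k) 0 = 0 := by
      intro k
      have h0 : φ g 0 = 0 := by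
        rw [hφ, hgb]; simp
      induction k with
      | zero => rfl
      | succ k ih => rw [pow_succ, Equiv.Perm.mul_apply, h0, ih]
    have hpair : ∀ k : ℕ, ((φ g ^ k) 1 = 1 ∨ (φ g ^ k) 1 = 2) ∧ ((φ g ^ k) 2 = 1 ∨ (φ g ^ k) 2 = 2) := by
      intro k
      have h1 : φ g 1 = 1 ∨ φ g 1 = 2 := by
        rw [hφ]
        rcases hgc with h | h <;> rw [h] <;> simp
      have h2 : φ g 2 = 1 ∨ φ g 2 = 2 := by
        rw [hφ]
        rcases hgd with h | h <;> rw [h] <;> simp
      induction k with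
      | zero => exact ⟨Or.inl rfl, Or.inr rfl⟩
      | succ k ih =>
        rw [pow_succ, Equiv.Perm.mul_apply, Equiv.Perm.mul_apply]
        constructor
        · rcases h1 with h | h <;> rw [h]
          · exact ih.1
          · exact ih.2
        · rcases h2 with h | h <;> rw [h]
          · exact ih.1
          · exact ih.2
    have hσg : σ = φ g ^ Nat.card K := by rw [hσ, hg', map_pow]
    have hσ0 : σ 0 = 0 := by rw [hσg]; exact hfix _
    have hσ12 : σ 1 = 1 ∧ σ 2 = 2 := by
      have h5 : (σ 1 = 1 ∨ σ 1 = 2) ∧ (σ 2 = 1 ∨ σ 2 = 2) := by rw [hσg]; exact hpair _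
      have hcube : ∀ i, σ (σ (σ i)) = i := fun i => by
        have := congrArg (fun τ : Equiv.Perm (Fin 8) => τ i) hσ3
        simpa [pow_succ, Equiv.Perm.mul_apply] using this
      have hinj := σ.injective
      rcases h5 with ⟨h5 | h5, h6 | h6⟩
      · exact absurd (hinj (h5.trans h6.symm)) (by decide)
      · exact ⟨h5, h6⟩
      · exfalso
        have h7 := hcube 1
        rw [h5, h6, h5] at h7
        exact absurd h7 (by decide)
      · exact absurd (hinj (h5.trans h6.symm)) (by decide)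
    obtain ⟨m, hm⟩ := Equiv.Perm.cycleType_prime_order (σ := σ) (by rw [hord]; exact Nat.prime_three)
    have hsup : σ.support.card = (m + 1) * 3 := by
      rw [← Equiv.Perm.sum_cycleType, hm, hord, Multiset.sum_replicate, smul_eq_mul]
    have hle : σ.support.card ≤ 5 := by
      have h5 : σ.support ⊆ (Finset.univ : Finset (Fin 8)) \ {0, 1, 2} := by
        intro i hi
        rw [Equiv.Perm.mem_support] at hi
        rw [Finset.mem_sdiff]
        refine ⟨Finset.mem_univ _, ?_⟩
        simp only [Finset.mem_insert, Finset.mem_singleton]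
        rintro (rfl | rfl | rfl)
        · exact hi hσ0
        · exact hi hσ12.1
        · exact hi hσ12.2
      calc σ.support.card ≤ ((Finset.univ : Finset (Fin 8)) \ {0, 1, 2}).card := Finset.card_le_card h5
        _ = 5 := by decide
    have h3c : σ.IsThreeCycle := by
      rw [← card_support_eq_three_iff]
      omega
    have hAle := Equiv.Perm.alternatingGroup_le_of_isPreprimitive_of_isThreeCycle_mem hprimΓ h3c
      (show σ ∈ Γ from ⟨g', rfl⟩)
    have h5 : Nat.card (alternatingGroup (Fin 8)) ≤ Nat.card Γ := Subgroup.card_le_of_le hAle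
    have h6 : 2 * Nat.card (alternatingGroup (Fin 8)) = 40320 := by
      rw [two_mul_nat_card_alternatingGroup, Nat.card_perm, Nat.card_fin]
      rfl
    rcases hc with hc | ⟨hc, -⟩ <;> omega
  · exact hp2 hp2'

end main

end Cfsg.Agent.H586.GW
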