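import Mathlib
import Cfsg.Agent.H586.GW.ImpA

/-!
# Gluck-Wolf: the imprimitive case, permutations of eight points and normalised elements
-/

set_option autoImplicit false
set_option linter.style.haveILetI false
set_option linter.unusedSectionVars false
set_option linter.unusedFintypeInType false

open scoped Pointwise

namespace Cfsg.Agent.H586.GW

open MulAction Cfsg.Agent.H511.Wt

/-- A map of order three of a finite set of cardinality prime to `3` has a fixed point. -/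
theorem exists_fixed_three {α : Type*} {S : Set α} (hfin : S.Finite) (f : α → α) (hf : ∀ s ∈ S, f s ∈ S)
    (h3 : ∀ s ∈ S, f (f (f s)) = s) (hcard : ¬ 3 ∣ Nat.card S) : ∃ s ∈ S, f s = s := by
  classical
  haveI : Finite S := hfin
  haveI : Fintype S := Fintype.ofFinite S
  let σ : Equiv.Perm S :=
    { toFun := fun s => ⟨f s, hf s s.2⟩
      invFun := fun s => ⟨f (f s), hf _ (hf s s.2)⟩
      left_inv := fun s => Subtype.ext (h3 s s.2)
      right_inv := fun s => Subtype.ext (h3 s s.2) }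
  have hσ : σ ^ 3 ^ 1 = 1 := by
    rw [pow_one]
    ext s
    rw [pow_succ, pow_succ, pow_one]
    exact h3 s s.2
  rw [Nat.card_eq_fintype_card] at hcard
  haveI : Fact (Nat.Prime 3) := ⟨Nat.prime_three⟩
  obtain ⟨s, hs⟩ := Equiv.Perm.exists_fixed_point_of_prime hcard hσ
  exact ⟨s, s.2, congrArg Subtype.val hs⟩

section perm
variable {B : Type*} [Finite B]

/-- An element of order seven of the symmetric group on eight points. -/
theorem seven_cycle (hB : Nat.card B = 8) {σ : Equiv.Perm B} (hσ : orderOf σ = 7) :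
    ∃ i₀ : B, σ i₀ = i₀ ∧ ∀ i, σ i = i → i = i₀ := by
  classical
  haveI : Fintype B := Fintype.ofFinite B
  obtain ⟨n, hn⟩ := Equiv.Perm.cycleType_prime_order (σ := σ) (by rw [hσ]; norm_num)
  have hsup : σ.support.card = (n + 1) * 7 := by
    rw [← Equiv.Perm.sum_cycleType, hn, hσ, Multiset.sum_replicate, smul_eq_mul]
  rw [Nat.card_eq_fintype_card] at hB
  have h1 : σ.supportᶜ.card = 8 - (n + 1) * 7 := by rw [Finset.card_compl, hsup, hB]
  have h2 : σ.support.card ≤ 8 := by rw [← hB]; exact Finset.card_le_univ _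
  have h3 : σ.supportᶜ.card = 1 := by omega
  obtain ⟨i₀, hi₀⟩ := Finset.card_eq_one.1 h3
  have h4 : ∀ i, σ i = i ↔ i = i₀ := by
    intro i
    have h5 : i ∈ σ.supportᶜ ↔ i ∈ ({i₀} : Finset B) := by rw [hi₀]
    rw [Finset.mem_compl, Equiv.Perm.mem_support, not_not, Finset.mem_singleton] at h5
    exact h5
  exact ⟨i₀, (h4 i₀).2 rfl, fun i hi => (h4 i).1 hi⟩

theorem seven_trans (hB : Nat.card B = 8) {σ : Equiv.Perm B} (hσ : orderOf σ = 7) {i j : B} (hi : σ i ≠ i)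
    (hj : σ j ≠ j) : ∃ k : ℕ, (σ ^ k) i = j := by
  classical
  haveI : Fintype B := Fintype.ofFinite B
  obtain ⟨n, hn⟩ := Equiv.Perm.cycleType_prime_order (σ := σ) (by rw [hσ]; norm_num)
  have hsup : σ.support.card = (n + 1) * 7 := by
    rw [← Equiv.Perm.sum_cycleType, hn, hσ, Multiset.sum_replicate, smul_eq_mul]
  rw [Nat.card_eq_fintype_card] at hB
  have h2 : σ.support.card ≤ 8 := by rw [← hB]; exact Finset.card_le_univ _
  have hn0 : n = 0 := by omega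
  subst hn0
  have hcyc : σ.IsCycle := by
    rw [← Equiv.Perm.card_cycleType_eq_one, hn, Multiset.card_replicate]
  obtain ⟨k, -, -, hk⟩ := (hcyc.sameCycle hi hj).exists_pow_eq'' 
  exact ⟨k, hk⟩

/-- The centralizer of an element of order seven. -/
theorem seven_comm (hB : Nat.card B = 8) {σ τ : Equiv.Perm B} (hσ : orderOf σ = 7) (hc : σ * τ = τ * σ) :
    ∃ k : ℕ, τ = σ ^ k := by
  classical
  obtain ⟨i₀, hi₀, huniq⟩ := seven_cycle hB hσ
  have hcomm : ∀ i, σ (τ i) = τ (σ i) := fun i => by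
    have := congrArg (fun ρ : Equiv.Perm B => ρ i) hc
    simpa [Equiv.Perm.mul_apply] using this
  have hτ : τ i₀ = i₀ := huniq _ (by rw [hcomm, hi₀])
  have hσ1 : σ ≠ 1 := by
    rintro rfl
    rw [orderOf_one] at hσ
    omega
  obtain ⟨i₁, hi₁⟩ : ∃ i₁, σ i₁ ≠ i₁ := by
    by_contra hcon
    push Not at hcon
    exact hσ1 (Equiv.ext hcon)
  have hτi₁ : σ (τ i₁) ≠ τ i₁ := by
    intro h
    have h1 := huniq _ h
    rw [← hτ] at h1
    exact hi₁ (by rw [τ.injective h1, hi₀])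
  obtain ⟨k, hk⟩ := seven_trans hB hσ hi₁ hτi₁
  refine ⟨k, Equiv.ext fun j => ?_⟩
  by_cases hj : σ j = j
  · rw [huniq j hj, hτ]
    have : (σ ^ k) i₀ = i₀ := by
      clear hk
      induction k with
      | zero => rfl
      | succ k ih => rw [pow_succ, Equiv.Perm.mul_apply, hi₀, ih]
    exact this.symm
  · obtain ⟨l, hl⟩ := seven_trans hB hσ hi₁ hj
    have hcommk : ∀ (l : ℕ) (i : B), (σ ^ l) (τ i) = τ ((σ ^ l) i) := by
      intro l
      induction l with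
      | zero => intro i; rfl
      | succ l ih => intro i; rw [pow_succ, Equiv.Perm.mul_apply, Equiv.Perm.mul_apply, hcomm, ih]
    rw [← hl, ← hcommk, ← hk, ← Equiv.Perm.mul_apply, ← Equiv.Perm.mul_apply, ← pow_add, ← pow_add, add_comm]

end perm

section elem
variable {H : Type*} [Group H] [Finite H] {K : Subgroup H}

/-- The exponent `b`: `b ≡ 2` mod `7`, `b ^ 3 ≡ 1` mod `n`. -/
theorem exists_exponent {n : ℕ} (hn : n ≠ 0) : ∃ b : ℕ, b ≡ 2 [MOD 7] ∧ b ^ 3 ≡ 1 [MOD n] := by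
  obtain ⟨a, m, hm, rfl⟩ : ∃ a m, ¬ 7 ∣ m ∧ n = 7 ^ a * m := by
    obtain ⟨a, m, h1, h2⟩ := Nat.exists_eq_pow_mul_and_not_dvd hn 7 (by norm_num)
    exact ⟨a, m, h1, h2⟩
  have hcop : (7 ^ (a + 1)).Coprime m := Nat.Coprime.pow_left _
    ((Nat.Prime.coprime_iff_not_dvd (by norm_num)).2 hm)
  obtain ⟨b, hb1, hb2⟩ := Nat.chineseRemainder hcop (2 ^ 7 ^ a) 1
  have h1 : (2 ^ 7 ^ a) ^ 3 ≡ 1 [MOD 7 ^ (a + 1)] := by
    have h2 := dvd_sub_pow_of_dvd_sub (R := ℤ) (p := 7) (a := 8) (b := 1) (by norm_num) a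
    rw [one_pow] at h2
    rw [← pow_mul, mul_comm, pow_mul]
    rw [Nat.modEq_iff_dvd]
    push_cast
    have h3 : (1 : ℤ) - 8 ^ 7 ^ a = - (8 ^ 7 ^ a - 1) := by ring
    rw [h3]
    exact (dvd_neg).2 (by exact_mod_cast h2)
  have h2 : 2 ^ 7 ^ a ≡ 2 [MOD 7] := by
    clear hb1 hb2 h1 hcop hn
    induction a with
    | zero => rfl
    | succ a ih =>
      rw [pow_succ, pow_mul]
      calc (2 ^ 7 ^ a) ^ 7 ≡ 2 ^ 7 [MOD 7] := ih.pow 7
        _ ≡ 2 [MOD 7] := by decide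
  refine ⟨b, ?_, ?_⟩
  · exact (hb1.of_dvd (dvd_pow_self 7 (by omega))).trans h2
  · have h3 : b ^ 3 ≡ 1 [MOD 7 ^ a * m] := by
      rw [← Nat.modEq_and_modEq_iff_modEq_mul (Nat.Coprime.coprime_dvd_left (pow_dvd_pow 7 (Nat.le_succ a)) hcop)]
      constructor
      · exact ((hb1.pow 3).trans h1).of_dvd (pow_dvd_pow 7 (Nat.le_succ a))
      · exact (hb2.pow 3).trans (by rw [one_pow])
    exact h3

theorem pow_eq_of_modEq_card {y : H} (hy : y ∈ K) {c : ℕ} (hc : c ≡ 1 [MOD Nat.card K]) : y ^ c = y := by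
  have h1 : orderOf y ∣ Nat.card K := by
    have := orderOf_dvd_natCard (⟨y, hy⟩ : K)
    rwa [Subgroup.orderOf_mk] at this
  have h2 : c ≡ 1 [MOD orderOf y] := hc.of_dvd h1
  rw [← pow_eq_pow_iff_modEq, pow_one] at h2
  exact h2

theorem conj_pow' (x y : H) (n : ℕ) : (x * y * x⁻¹) ^ n = x * y ^ n * x⁻¹ := conj_pow

/-- The map `y ↦ x⁻¹ y ^ b x` has order three on `K`. -/
theorem f_three {x y : H} (hx : x ^ 3 = 1) (hy : y ∈ K) {b : ℕ} (hb : b ^ 3 ≡ 1 [MOD Nat.card K]) :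
    x⁻¹ * (x⁻¹ * (x⁻¹ * y ^ b * x) ^ b * x) ^ b * x = y := by
  have h1 : ∀ z : H, (x⁻¹ * z * x) ^ b = x⁻¹ * z ^ b * x := by
    intro z
    have := conj_pow' x⁻¹ z b
    rwa [inv_inv] at this
  rw [h1, h1, h1]
  have hx' : x * x * x = 1 := by rw [← hx, pow_succ, pow_succ, pow_one]
  have h2 : x⁻¹ * (x⁻¹ * (x⁻¹ * ((y ^ b) ^ b) ^ b * x) * x) * x =
      (x * x * x)⁻¹ * ((y ^ b) ^ b) ^ b * (x * x * x) := by
    generalize ((y ^ b) ^ b) ^ b = z
    group
  rw [h2, hx', inv_one, one_mul, mul_one, ← pow_mul, ← pow_mul]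
  apply pow_eq_of_modEq_card hy
  have : b * b * b = b ^ 3 := by ring
  rw [mul_assoc] at this
  rw [this]
  exact hb

/-- A normalised element in a coset. -/
theorem exists_normalised (h3 : ¬ 3 ∣ Nat.card K) {N₁ : Subgroup H} (hN : N₁.Normal) (hNK : N₁ ≤ K)
    {x u : H} (hx : x ^ 3 = 1) (hu : u ∈ K) {b : ℕ} (hb : b ^ 3 ≡ 1 [MOD Nat.card K])
    (hxu : (QuotientGroup.mk (x * u * x⁻¹) : H ⧸ N₁) = QuotientGroup.mk (u ^ b)) :
    ∃ y ∈ K, (QuotientGroup.mk y : H ⧸ N₁) = QuotientGroup.mk u ∧ x * y * x⁻¹ = y ^ b := by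
  classical
  let S : Set H := {y | (QuotientGroup.mk y : H ⧸ N₁) = QuotientGroup.mk u}
  have hSK : ∀ y ∈ S, y ∈ K := by
    intro y hy
    have h1 : u⁻¹ * y ∈ N₁ := QuotientGroup.eq.1 (Eq.symm hy)
    have h2 := K.mul_mem hu (hNK h1)
    rwa [mul_inv_cancel_left] at h2
  have hcard : Nat.card S = Nat.card N₁ := by
    refine Nat.card_congr
      { toFun := fun y => ⟨u⁻¹ * y, QuotientGroup.eq.1 (Eq.symm y.2)⟩
        invFun := fun n => ⟨u * n, by
          change (QuotientGroup.mk (u * n) : H ⧸ N₁) = QuotientGroup.mk u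
          rw [eq_comm, QuotientGroup.eq, inv_mul_cancel_left]; exact n.2⟩
        left_inv := fun y => Subtype.ext (mul_inv_cancel_left _ _)
        right_inv := fun n => Subtype.ext (inv_mul_cancel_left _ _) }
  obtain ⟨y, hyS, hy⟩ := exists_fixed_three (S := S) (Set.toFinite S) (fun y => x⁻¹ * y ^ b * x) (by
    intro y hy
    change (QuotientGroup.mk (x⁻¹ * y ^ b * x) : H ⧸ N₁) = QuotientGroup.mk u
    have h1 : (QuotientGroup.mk y : H ⧸ N₁) = QuotientGroup.mk u := hy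
    rw [QuotientGroup.mk_mul, QuotientGroup.mk_mul, QuotientGroup.mk_pow, h1, ← QuotientGroup.mk_pow, ← hxu,
      ← QuotientGroup.mk_mul, ← QuotientGroup.mk_mul]
    congr 1
    group) (by
    intro y hy
    exact f_three hx (hSK y hy) hb) (by
    rw [hcard]
    exact fun h => h3 (h.trans (Subgroup.card_dvd_of_le hNK)))
  refine ⟨y, hSK y hyS, hyS, ?_⟩
  have h1 : x⁻¹ * y ^ b * x = y := hy
  calc x * y * x⁻¹ = x * (x⁻¹ * y ^ b * x) * x⁻¹ := by rw [h1]
    _ = y ^ b := by group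

/-- The `7`-part of an element. -/
theorem exists_seven_part (K : Subgroup H) : ∃ m : ℕ, m ≡ 1 [MOD 7] ∧ (∃ a : ℕ, (∀ y ∈ K, (y ^ m) ^ 7 ^ a = 1) ∧
    m ≡ 1 [MOD 7 ^ a]) := by
  obtain ⟨a, n, hn, hcard⟩ := Nat.exists_eq_pow_mul_and_not_dvd (Nat.card_pos (α := K)).ne' 7 (by norm_num)
  have hcop : (7 ^ (a + 1)).Coprime n := Nat.Coprime.pow_left _
    ((Nat.Prime.coprime_iff_not_dvd (by norm_num)).2 hn)
  obtain ⟨m, hm1, hm2⟩ := Nat.chineseRemainder hcop 1 0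
  refine ⟨m, hm1.of_dvd (dvd_pow_self 7 (by omega)), a, ?_, hm1.of_dvd (pow_dvd_pow 7 (Nat.le_succ a))⟩
  intro y hy
  obtain ⟨k, hk⟩ := (Nat.modEq_zero_iff_dvd).1 hm2
  have h1 : y ^ Nat.card K = 1 := by
    have h2 : (⟨y, hy⟩ : K) ^ Nat.card K = 1 := pow_card_eq_one'
    exact congrArg Subtype.val h2
  rw [hk, ← pow_mul]
  have h2 : n * k * 7 ^ a = Nat.card K * k := by rw [hcard]; ring
  rw [h2, pow_mul, h1, one_pow]

end elem

end Cfsg.Agent.H586.GW
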