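import Mathlib
import Cfsg.Agent.H586.GW.ImpD

/-!
# Gluck-Wolf: the imprimitive case, `p` odd: the end
-/

set_option autoImplicit false
set_option linter.style.haveILetI false
set_option linter.unusedSectionVars false
set_option linter.unusedFintypeInType false

open scoped Pointwise commutatorElement

namespace Cfsg.Agent.H586.GW

open MulAction Cfsg.Agent.H511.Wt

section defs
variable {H V : Type*} [Group H] [Finite H] [AddCommGroup V] [Finite V] [DistribMulAction H V]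

/-- The action of the `7`-elements normalised by `x` on a block. -/
structure BlockSC (K : Subgroup H) {M : Subgroup H} (W : H ⧸ M → AddSubgroup V) (i : H ⧸ M) (x : H) : Prop where
  sc1 : ∀ h ∈ K, h • i = i → (∃ k : ℕ, h ^ 7 ^ k = 1) → ∀ b : ℕ, ¬ b ≡ 1 [MOD 7] → x * h * x⁻¹ = h ^ b →
    ∀ w ∈ W i, w ≠ 0 → h • w = w → ∀ w ∈ W i, h • w = w
  sc2 : ∀ h ∈ K, ∀ h' ∈ K, h • i = i → h' • i = i → (∃ k : ℕ, h ^ 7 ^ k = 1) → (∃ k : ℕ, h' ^ 7 ^ k = 1) →
    ∀ b b' : ℕ, ¬ b ≡ 1 [MOD 7] → ¬ b' ≡ 1 [MOD 7] → x * h * x⁻¹ = h ^ b → x * h' * x⁻¹ = h' ^ b' →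
    (∃ w ∈ W i, h • w ≠ w) → (∃ w ∈ W i, h' • w ≠ w) → b ≡ b' [MOD 7]

end defs

section core
variable {p r : ℕ} {H V : Type*} [Group H] [Finite H] [AddCommGroup V] [Finite V]
  [DistribMulAction H V] {K N : Subgroup H} {φ : N →* ℂˣ} {M : Subgroup H} {W : H ⧸ M → AddSubgroup V}

theorem Core.N_fix_block (C : Core (V := V) p r K N φ)
    (hW : ∀ (g : H) (i : H ⧸ M), g • W i = W (g • i)) (hind : iSupIndep W) (htop : ⨆ i, W i = ⊤) {n : H}
    (hn : n ∈ N) (i : H ⧸ M) : n • i = i := by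
  haveI := C.nt
  by_contra hne
  obtain ⟨w, hw, hw0⟩ := exists_ne_zero hW htop i
  have h2 := smul_mem_W hW (g := n) hw
  rw [C.smul_of_mem hn] at h2
  exact hw0 (W_disjoint hind hne h2 hw)

theorem pow_smul_smul {X : Type*} [MulAction H X] {x y : H} {b : ℕ} (hxy : x * y * x⁻¹ = y ^ b) (k : ℕ) (u : X) :
    x • y ^ k • u = y ^ (b * k) • x • u := by
  have h1 : x * y ^ k = y ^ (b * k) * x := by
    rw [pow_mul, ← hxy, conj_pow]; group
  rw [smul_smul, smul_smul, h1]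

/-- Eight blocks. -/
theorem Core.eight_false (C : Core (V := V) 3 r K N φ) (hM : IsCoatom M)
    (hW : ∀ (g : H) (i : H ⧸ M), g • W i = W (g • i)) (hind : iSupIndep W) (htop : ⨆ i, W i = ⊤)
    (h8 : Nat.card (H ⧸ M) = 8) (h7 : 7 ∣ (MulAction.toPermHom H (H ⧸ M)).ker.index)
    (hsc : ∀ (i : H ⧸ M) (x : H), x ∉ K → x ^ 3 = 1 → x • i = i → (∃ w ∈ W i, w ≠ 0 ∧ x • w = w) →
      BlockSC K W i x) : False := by
  classical
  haveI := C.nt
  haveI : Fact (Nat.Prime 3) := ⟨Nat.prime_three⟩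
  haveI : Fact (Nat.Prime 7) := ⟨by norm_num⟩
  haveI : Fintype (H ⧸ M) := Fintype.ofFinite _
  have hKn := C.nK
  set Φ := MulAction.toPermHom H (H ⧸ M) with hΦ
  have hΦa : ∀ (g : H) (i : H ⧸ M), Φ g i = g • i := fun g i => rfl
  have hkerK : Φ.ker ≤ K := by
    intro g hg
    refine C.ker_blocks hM hW hind htop fun i => ?_
    have h1 : Φ g = 1 := hg
    have h2 := congrArg (fun σ : Equiv.Perm (H ⧸ M) => σ i) h1
    exact h2
  -- the element `x₀`
  choose w hw hw0 using fun i => exists_ne_zero hW htop i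
  obtain ⟨g, hg, hgv⟩ := C.P1 (∑ i, w i)
  obtain ⟨hx₀K, hx₀3⟩ := pow_card_notMem C.nK C.idx C.cop hg
  set x₀ := g ^ Nat.card K with hx₀
  have hx₀v : x₀ • (∑ i, w i) = ∑ i, w i := by
    have h1 : Subgroup.zpowers g ≤ stabilizer H (∑ i, w i) := by
      rw [Subgroup.zpowers_le]; exact hgv
    exact h1 (Subgroup.pow_mem _ (Subgroup.mem_zpowers g) _)
  obtain ⟨x, hxK, hx3, hx1, hx2, u, huK, hu7, hxu⟩ := exists_xu h8 C.nK C.idx C.cop hkerK h7 hx₀3 hx₀K
  have hfixx : ∀ i, x • i = i → x • w i = w i := by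
    intro i hi
    have h1 : x₀ • i = i := by
      have h2 : Subgroup.zpowers x ≤ stabilizer H i := by rw [Subgroup.zpowers_le]; exact hi
      exact h2 hx2
    have h2 : x₀ • w i = w i := by
      rw [fix_comp hW hind hw hx₀v i, h1]
    have h3 : Subgroup.zpowers x₀ ≤ stabilizer H (w i) := by rw [Subgroup.zpowers_le]; exact h2
    exact h3 hx1
  -- the element `y`
  obtain ⟨b, hb2, hb3⟩ := exists_exponent (n := Nat.card K) Nat.card_pos.ne'
  obtain ⟨y₀, hy₀K, hy₀u, hxy₀⟩ := exists_normalised C.cop (inferInstance : Φ.ker.Normal) hkerK hx3 huK hb3 (by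
    rw [QuotientGroup.eq, MonoidHom.mem_ker, map_mul, map_inv, hxu, map_pow, inv_mul_eq_one,
      pow_eq_pow_iff_modEq, hu7]
    exact hb2.symm)
  have hΦy₀ : Φ y₀ = Φ u := by
    rw [QuotientGroup.eq, MonoidHom.mem_ker, map_mul, map_inv, inv_mul_eq_one] at hy₀u
    exact hy₀u
  obtain ⟨m, hm7, a, hm, hma⟩ := exists_seven_part K
  set y := y₀ ^ m with hy
  have hyK : y ∈ K := K.pow_mem hy₀K m
  have hy7 : y ^ 7 ^ a = 1 := hm y₀ hy₀K
  have hxy : x * y * x⁻¹ = y ^ b := by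
    rw [hy, ← conj_pow, hxy₀, ← pow_mul, ← pow_mul, mul_comm]
  have hΦy : Φ y = Φ u := by
    rw [hy, map_pow, hΦy₀]
    have h1 : m ≡ 1 [MOD orderOf (Φ u)] := by rw [hu7]; exact hm7
    rw [← pow_eq_pow_iff_modEq, pow_one] at h1
    exact h1
  have hord : orderOf (Φ y) = 7 := by rw [hΦy]; exact hu7
  -- the fixed points
  obtain ⟨i₀, hi₀, huniq⟩ := seven_cycle h8 hord
  have hyi₀ : y • i₀ = i₀ := hi₀
  have huniq' : ∀ i : H ⧸ M, y • i = i → i = i₀ := huniq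
  have hpowfix : ∀ (k : ℕ), y ^ k • i₀ = i₀ := by
    intro k
    have h2 : Subgroup.zpowers y ≤ stabilizer H i₀ := by rw [Subgroup.zpowers_le]; exact hyi₀
    exact h2 (Subgroup.pow_mem _ (Subgroup.mem_zpowers y) k)
  have hyx : y * x = x * y ^ (b * b) := by
    have h1 : x * y ^ (b * b) * x⁻¹ = y := by
      rw [← conj_pow, hxy, ← pow_mul]
      have h2 : b * (b * b) ≡ 1 [MOD Nat.card K] := by
        have : b * (b * b) = b ^ 3 := by ring
        rw [this]; exact hb3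
      exact pow_eq_of_modEq_card hyK h2
    calc y * x = (x * y ^ (b * b) * x⁻¹) * x := by rw [h1]
      _ = x * y ^ (b * b) := by group
  have hxi₀ : x • i₀ = i₀ := by
    apply huniq'
    rw [smul_smul, hyx, mul_smul, hpowfix]
  obtain ⟨i₁, hi₁₀, hxi₁⟩ := exists_fixed_three (S := {i : H ⧸ M | i ≠ i₀}) (Set.toFinite _) (fun i => x • i) (by
    intro i hi h
    apply hi
    have h1 : x • i = x • i₀ := by rw [hxi₀]; exact h
    exact smul_left_cancel x h1) (by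
    intro i _
    change x • x • x • i = i
    rw [smul_smul, smul_smul]
    have : x * x * x = 1 := by rw [← hx3, pow_succ, pow_succ, pow_one]
    rw [this, one_smul]) (by
    have h1 : {i : H ⧸ M | i ≠ i₀} = {i₀}ᶜ := by ext i; simp
    rw [h1, Nat.card_coe_set_eq, Set.ncard_compl, h8, Set.ncard_singleton]
    norm_num)
  have hi₁ne : i₁ ≠ i₀ := hi₁₀
  have hxi₁' : x • i₁ = i₁ := hxi₁
  have hyi₁ : y • i₁ ≠ i₁ := fun h => hi₁ne (huniq' _ h)
  -- congruences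
  have hbb : b * b ≡ 4 [MOD 7] := hb2.mul hb2
  have hb1 : ¬ b ≡ 1 [MOD 7] := fun h => absurd (hb2.symm.trans h) (by decide)
  have hbb1 : ¬ b * b ≡ 1 [MOD 7] := fun h => absurd (hbb.symm.trans h) (by decide)
  have hbbb : ¬ b * b ≡ b [MOD 7] := fun h => absurd ((hbb.symm.trans h).trans hb2) (by decide)
  -- the vectors in the blocks
  have hblock : ∀ (i : H ⧸ M) (y' : H), y' ∈ K → y' • i = i → (∃ k : ℕ, y' ^ 7 ^ k = 1) → x • i = i →
      x * y' * x⁻¹ = y' ^ b → ∃ w' ∈ W i, x • w' = w' ∧ y' • w' = w' ∧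
        ∀ h ∈ K, h • i = i → (∃ k : ℕ, h ^ 7 ^ k = 1) → x * h * x⁻¹ = h ^ (b * b) → h • w' = w' →
          ∀ z ∈ W i, h • z = z := by
    intro i y' hy'K hy'i hy'7 hxi hxy'
    have hs := hsc i x hxK hx3 hxi ⟨w i, hw i, hw0 i, hfixx i hxi⟩
    by_cases hy' : ∀ z ∈ W i, y' • z = z
    · refine ⟨w i, hw i, hfixx i hxi, hy' _ (hw i), ?_⟩
      intro h hhK hhi hh7 hxh hhw
      exact hs.sc1 h hhK hhi hh7 (b * b) hbb1 hxh (w i) (hw i) (hw0 i) hhw
    · refine ⟨0, (W i).zero_mem, smul_zero x, smul_zero y', ?_⟩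
      intro h hhK hhi hh7 hxh _
      by_contra hcon
      push Not at hcon hy'
      exact hbbb (hs.sc2 h hhK y' hy'K hhi hy'i hh7 hy'7 (b * b) b hbb1 hb1 hxh hxy' hcon hy')
  have hy7i : ∀ i : H ⧸ M, y ^ 7 • i = i := by
    intro i
    have h1 : Φ y ^ 7 = 1 := by rw [← hord]; exact pow_orderOf_eq_one _
    rw [← map_pow] at h1
    have h2 := congrArg (fun σ : Equiv.Perm (H ⧸ M) => σ i) h1
    exact h2
  have hxy7 : x * y ^ 7 * x⁻¹ = (y ^ 7) ^ b := by
    rw [← conj_pow, hxy, ← pow_mul (a := y), ← pow_mul (a := y), mul_comm]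
  obtain ⟨w₀, hw₀, hxw₀, hyw₀, hh₀⟩ := hblock i₀ y hyK hyi₀ ⟨a, hy7⟩ hxi₀ hxy
  obtain ⟨w₁, hw₁, hxw₁, hyw₁, hh₁⟩ := hblock i₁ (y ^ 7) (K.pow_mem hyK 7) (hy7i i₁)
    ⟨a, by rw [← pow_mul, mul_comm, pow_mul, hy7, one_pow]⟩ hxi₁' hxy7
  -- the vector
  have hyw₁' : ∀ n : ℕ, y ^ (7 * n) • w₁ = w₁ := by
    intro n
    rw [pow_mul]
    have h2 : Subgroup.zpowers (y ^ 7) ≤ stabilizer H w₁ := by rw [Subgroup.zpowers_le]; exact hyw₁
    exact h2 (Subgroup.pow_mem _ (Subgroup.mem_zpowers _) n)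
  have hwd' : ∀ k l : ℕ, k ≤ l → y ^ k • i₁ = y ^ l • i₁ → y ^ k • w₁ = y ^ l • w₁ := by
    intro k l hkl h
    obtain ⟨d, rfl⟩ := Nat.exists_eq_add_of_le hkl
    rw [pow_add, mul_smul] at h
    have h1 : i₁ = y ^ d • i₁ := smul_left_cancel _ h
    have h2 : 7 ∣ d := by
      by_contra hcon
      have hcop : Nat.Coprime 7 d := (Nat.Prime.coprime_iff_not_dvd (by norm_num)).2 hcon
      obtain ⟨s, hs1, hs2⟩ := Nat.chineseRemainder hcop 1 0
      obtain ⟨t, ht⟩ := (Nat.modEq_zero_iff_dvd).1 hs2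
      apply hyi₁
      have h3 : y ^ s • i₁ = i₁ := by
        rw [ht, pow_mul]
        have h4 : Subgroup.zpowers (y ^ d) ≤ stabilizer H i₁ := by rw [Subgroup.zpowers_le]; exact h1.symm
        exact h4 (Subgroup.pow_mem _ (Subgroup.mem_zpowers _) t)
      have h4 : Φ y ^ s = Φ y := by
        have h5 : s ≡ 1 [MOD orderOf (Φ y)] := by rw [hord]; exact hs1
        rw [← pow_eq_pow_iff_modEq, pow_one] at h5
        exact h5
      rw [← map_pow] at h4
      have h5 := congrArg (fun σ : Equiv.Perm (H ⧸ M) => σ i₁) h4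
      have h6 : y ^ s • i₁ = y • i₁ := h5
      rw [← h6]; exact h3
    obtain ⟨n, rfl⟩ := h2
    rw [pow_add, mul_smul, hyw₁']
  have hwd : ∀ k l : ℕ, y ^ k • i₁ = y ^ l • i₁ → y ^ k • w₁ = y ^ l • w₁ := by
    intro k l h
    rcases le_total k l with hkl | hkl
    · exact hwd' k l hkl h
    · exact (hwd' l k hkl h.symm).symm
  have hex : ∀ i : H ⧸ M, ∃ k : ℕ, i ≠ i₀ → y ^ k • i₁ = i := by
    intro i
    by_cases hi : i = i₀
    · exact ⟨0, fun h => absurd hi h⟩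
    · obtain ⟨k, hk⟩ := seven_trans h8 hord (i := i₁) (j := i) hyi₁ (fun h => hi (huniq' _ h))
      refine ⟨k, fun _ => ?_⟩
      rw [← map_pow] at hk
      exact hk
  choose kk hkk using hex
  have hne : ∀ k : ℕ, y ^ k • i₁ ≠ i₀ := by
    intro k h
    rw [← hpowfix k] at h
    exact hi₁ne (smul_left_cancel _ h)
  let f : H ⧸ M → V := fun i => if i = i₀ then w₀ else y ^ kk i • w₁
  have hfi₀ : f i₀ = w₀ := by simp only [f, if_pos rfl]
  have hfy : ∀ k : ℕ, f (y ^ k • i₁) = y ^ k • w₁ := by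
    intro k
    simp only [f, if_neg (hne k)]
    exact hwd _ _ (hkk _ (hne k))
  have hcases : ∀ i : H ⧸ M, i = i₀ ∨ ∃ k : ℕ, i = y ^ k • i₁ := by
    intro i
    by_cases hi : i = i₀
    · exact Or.inl hi
    · exact Or.inr ⟨kk i, (hkk i hi).symm⟩
  have hf : ∀ i, f i ∈ W i := by
    intro i
    rcases hcases i with rfl | ⟨k, rfl⟩
    · rw [hfi₀]; exact hw₀
    · rw [hfy]; exact smul_mem_W hW hw₁
  have hsum : ∀ g : H, (∀ i, g • f i = f (g • i)) → g • (∑ i, f i) = ∑ i, f i := by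
    intro g hg
    rw [Finset.smul_sum]
    calc ∑ i, g • f i = ∑ i, f (g • i) := Finset.sum_congr rfl fun i _ => hg i
      _ = ∑ i, f i := Fintype.sum_equiv (MulAction.toPerm g) _ _ (fun j => rfl)
  set v := ∑ i, f i with hv
  have hyv : y • v = v := by
    apply hsum
    intro i
    rcases hcases i with rfl | ⟨k, rfl⟩
    · rw [hyi₀, hfi₀, hyw₀]
    · rw [hfy, smul_smul, smul_smul, ← pow_succ', hfy]
  have hxv : x • v = v := by
    apply hsum
    intro i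
    rcases hcases i with rfl | ⟨k, rfl⟩
    · rw [hxi₀, hfi₀, hxw₀]
    · rw [hfy, pow_smul_smul hxy, pow_smul_smul hxy, hxw₁, hxi₁', hfy]
  -- `y` is good
  have hgood : ∀ h₀ ∈ K, h₀ • v = v → ⁅y, h₀⁆ ∈ N → ⁅y, h₀⁆ = 1 := by
    intro h₀ hh₀K hh₀v hN
    by_contra hne1
    obtain ⟨h₁, hh₁K, hh₁v, hh₁z, hh₁x⟩ := C.exists_witness hx3 hxv hb3 hxy hyK hy7 hh₀K hh₀v hN hma
    set h := h₁ ^ m with hh
    have hhK : h ∈ K := K.pow_mem hh₁K m
    have hhv : h • v = v := by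
      have h2 : Subgroup.zpowers h₁ ≤ stabilizer H v := by rw [Subgroup.zpowers_le]; exact hh₁v
      exact h2 (Subgroup.pow_mem _ (Subgroup.mem_zpowers _) m)
    have hh7 : ∃ k : ℕ, h ^ 7 ^ k = 1 := ⟨a, hm h₁ hh₁K⟩
    have hxh : x * h * x⁻¹ = h ^ (b * b) := by
      rw [hh, ← conj_pow, hh₁x, ← pow_mul, ← pow_mul, mul_comm]
    have hzN : ⁅y, h⁆ ∈ N := by rw [hh₁z]; exact hN
    have hyh : y * h = ⁅y, h⁆ * (h * y) := by rw [commutatorElement_def]; group
    -- `h` fixes all blocks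
    have hΦN : ∀ n ∈ N, Φ n = 1 := fun n hn => Equiv.ext fun i => C.N_fix_block hW hind htop hn i
    have hΦc : Φ y * Φ h = Φ h * Φ y := by
      rw [← map_mul, ← map_mul, hyh, map_mul, hΦN _ hzN, one_mul]
    obtain ⟨k, hk⟩ := seven_comm h8 hord hΦc
    have hk7 : b * k ≡ k * (b * b) [MOD 7] := by
      rw [← hord, ← pow_eq_pow_iff_modEq]
      have h1 : Φ (x * h * x⁻¹) = Φ y ^ (k * (b * b)) := by
        rw [hxh, map_pow, hk, ← pow_mul]
      have h2 : Φ (x * h * x⁻¹) = Φ y ^ (b * k) := by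
        rw [map_mul, map_mul, map_inv, hk, ← conj_pow, ← map_inv, ← map_mul, ← map_mul, hxy, map_pow, ← pow_mul]
      rw [← h1, ← h2]
    have hk0 : k ≡ 0 [MOD 7] := by
      have h1 : 2 * k ≡ k * 4 [MOD 7] := ((hb2.symm.mul_right k).trans hk7).trans (hbb.mul_left k)
      rw [Nat.modEq_zero_iff_dvd]
      have h2 : 7 ∣ k * 4 - 2 * k := (Nat.modEq_iff_dvd' (by omega)).1 h1
      omega
    have hΦh : Φ h = 1 := by
      rw [hk, ← orderOf_dvd_iff_pow_eq_one, hord]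
      exact (Nat.modEq_zero_iff_dvd).1 hk0
    have hhi : ∀ i : H ⧸ M, h • i = i := by
      intro i
      have h2 := congrArg (fun σ : Equiv.Perm (H ⧸ M) => σ i) hΦh
      exact h2
    have hhf : ∀ i, h • f i = f i := by
      intro i
      rw [fix_comp hW hind hf hhv i, hhi]
    have htr₀ : ∀ z ∈ W i₀, h • z = z := hh₀ h hhK (hhi i₀) hh7 hxh (by
      have := hhf i₀
      rwa [hfi₀] at this)
    have htr₁ : ∀ z ∈ W i₁, h • z = z := hh₁ h hhK (hhi i₁) hh7 hxh (by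
      have h1 := hhf i₁
      have h2 := hfy 0
      rw [pow_zero, one_smul, one_smul] at h2
      rwa [h2] at h1)
    have hcommu : ∀ u : V, y • h • u = h • y • u := by
      intro u
      rw [smul_smul, hyh, mul_smul, C.smul_of_mem hzN, mul_smul]
    have hcommk : ∀ (k : ℕ) (u : V), y ^ k • h • u = h • y ^ k • u := by
      intro k
      induction k with
      | zero => intro u; rw [pow_zero, one_smul, one_smul]
      | succ k ih => intro u; rw [pow_succ', mul_smul, ih, hcommu, mul_smul]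
    have hall : ∀ i, ∀ z ∈ W i, h • z = z := by
      intro i z hz
      rcases hcases i with rfl | ⟨k, rfl⟩
      · exact htr₀ z hz
      · have h1 : (y ^ k)⁻¹ • z ∈ W i₁ := by
          have := smul_mem_W hW (g := (y ^ k)⁻¹) hz
          rwa [inv_smul_smul] at this
        have h2 : z = y ^ k • (y ^ k)⁻¹ • z := (smul_inv_smul _ _).symm
        rw [h2, ← hcommk, htr₁ _ h1]
    have hhN : h ∈ N := (C.ker h).1 (trivial_of_blocks htop hall)
    apply hne1
    rw [← hh₁z]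
    exact commutatorElement_eq_one_iff_mul_comm.2 (Subgroup.mem_center_iff.1 (C.cen hhN) y)
  -- the contradiction
  obtain ⟨z, hzK, hzv, hz⟩ := C.good v hyK hyv hgood (h := x) hxv
  have hgy : (z⁻¹ * x) * y = y * (z⁻¹ * x) := by
    calc (z⁻¹ * x) * y = z⁻¹ * (x * y * x⁻¹) * x := by group
      _ = z⁻¹ * (z * y * z⁻¹) * x := by rw [hz]
      _ = y * (z⁻¹ * x) := by group
  obtain ⟨k, hk⟩ := seven_comm h8 hord (τ := Φ (z⁻¹ * x)) (by rw [← map_mul, ← map_mul, hgy])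
  apply hxK
  have h2 : (z⁻¹ * x) * (y ^ k)⁻¹ ∈ Φ.ker := by
    rw [MonoidHom.mem_ker, map_mul, map_inv, map_pow, hk, mul_inv_cancel]
  have h3 := K.mul_mem (hkerK h2) (K.pow_mem hyK k)
  rw [inv_mul_cancel_right] at h3
  have h4 := K.mul_mem hzK h3
  rwa [mul_inv_cancel_left] at h4

/-- The imprimitive case for odd `p`. -/
theorem Core.imp_odd_false [hp : Fact p.Prime] (h3513 : S3513Stmt) (hp2 : p ≠ 2) (C : Core (V := V) p r K N φ)
    (hM : IsCoatom M) (hW : ∀ (g : H) (i : H ⧸ M), g • W i = W (g • i)) (hind : iSupIndep W) (htop : ⨆ i, W i = ⊤)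
    (hsc : p = 3 → (∀ i, ∀ a ∈ W i, ∀ b ∈ W i, a ≠ 0 → b ≠ 0 → ∃ k ∈ K, k • i = i ∧ k • a = b) →
      ∀ (i : H ⧸ M) (x : H), x ∉ K → x ^ 3 = 1 → x • i = i → (∃ w ∈ W i, w ≠ 0 ∧ x • w = w) →
      BlockSC K W i x) : False := by
  obtain ⟨hp3, h8, h7, htr⟩ := C.imp_odd h3513 hp2 hM hW hind htop
  subst hp3
  have htrK : ∀ i, ∀ a ∈ W i, ∀ b ∈ W i, a ≠ 0 → b ≠ 0 → ∃ k ∈ K, k • i = i ∧ k • a = b := by
    intro i a ha b hb ha0 hb0
    obtain ⟨m, hmi, hma⟩ := htr i a ha b hb ha0 hb0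
    obtain ⟨g, hg, hgb⟩ := C.P1 b
    have hgi : g • i = i := by
      by_contra hne
      have h1 := smul_mem_W hW (g := g) hb
      rw [hgb] at h1
      exact hb0 (W_disjoint hind hne h1 hb)
    have hKn := C.nK
    have h1 : (QuotientGroup.mk m : H ⧸ K) ∈ Subgroup.zpowers (QuotientGroup.mk g : H ⧸ K) := by
      apply mem_zpowers_of_prime_card (p := 3) (by rw [← C.idx]; rfl)
      intro h
      rw [QuotientGroup.eq_one_iff] at h
      exact hg h
    obtain ⟨j, hj⟩ := h1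
    have hj' : (g ^ j)⁻¹ * m ∈ K := by
      rw [← QuotientGroup.eq]
      exact hj
    have hgz : ∀ {X : Type _} [MulAction H X] (t : X), g • t = t → (g ^ j)⁻¹ • t = t := by
      intro X _ t ht
      have h2 : Subgroup.zpowers g ≤ stabilizer H t := by rw [Subgroup.zpowers_le]; exact ht
      exact h2 (Subgroup.inv_mem _ (Subgroup.zpow_mem _ (Subgroup.mem_zpowers _) j))
    refine ⟨_, hj', ?_, ?_⟩
    · rw [mul_smul, hmi]
      exact hgz i hgi
    · rw [mul_smul, hma]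
      have h2 : Subgroup.zpowers g ≤ stabilizer H b := by rw [Subgroup.zpowers_le]; exact hgb
      exact h2 (Subgroup.inv_mem _ (Subgroup.zpow_mem _ (Subgroup.mem_zpowers _) j))
  exact C.eight_false hM hW hind htop h8 h7 (hsc rfl htrK)

end core

end Cfsg.Agent.H586.GW
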