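import Mathlib
import Cfsg.Agent.H586.GW.ImpA
import Cfsg.Agent.H676.GW.Blk
import Cfsg.Agent.H676.GW.Perm
import Cfsg.Agent.H676.GW.PermB

/-!
# Gluck-Wolf: the imprimitive case, `p = 2`, odd characteristic
-/

set_option autoImplicit false
set_option linter.style.haveILetI false
set_option linter.unusedSectionVars false
set_option linter.unusedFintypeInType false

open scoped Pointwise commutatorElement

namespace Cfsg.Agent.H586.GW

open MulAction Cfsg.Agent.H511.Wt Cfsg.Agent.H676.GW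

variable {r : ℕ} {H V : Type*} [Group H] [Finite H] [AddCommGroup V] [Finite V]
  [DistribMulAction H V] {K N : Subgroup H} {φ : N →* ℂˣ}

/-- No element of `H` maps a nonzero vector to its negative. -/
theorem Core.smul_ne_neg (hr : r.Prime) (hr2 : r ≠ 2) (C : Core (V := V) 2 r K N φ) {a : V} (ha : a ≠ 0) (h : H) :
    h • a ≠ -a := by
  have h2 : a ≠ -a := by
    intro h1
    have h3 : 2 • a = 0 := by
      rw [two_nsmul]
      nth_rewrite 2 [h1]
      exact add_neg_cancel a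
    have h4 := C.exp a
    have h5 : Nat.Coprime 2 r := (Nat.coprime_primes Nat.prime_two hr).2 (Ne.symm hr2)
    have h6 : addOrderOf a ∣ Nat.gcd 2 r := Nat.dvd_gcd (addOrderOf_dvd_of_nsmul_eq_zero h3)
      (addOrderOf_dvd_of_nsmul_eq_zero h4)
    rw [h5.gcd_eq_one, Nat.dvd_one, AddMonoid.addOrderOf_eq_one_iff] at h6
    exact ha h6
  have key : ∀ k ∈ K, k • a ≠ -a := by
    intro k hk h1
    have h3 : k ^ 2 • a = a := by
      rw [pow_two, mul_smul, h1, smul_neg, h1, neg_neg]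
    have h4 : ¬ 2 ∣ orderOf k := fun h => C.cop (h.trans (by
      have := Subgroup.orderOf_dvd_natCard K hk
      exact this))
    obtain ⟨m, hm⟩ : ∃ m, orderOf k = 2 * m + 1 := ⟨orderOf k / 2, by omega⟩
    have h5 : k = (k ^ 2) ^ (m + 1) := by
      rw [← pow_mul]
      have : 2 * (m + 1) = orderOf k + 1 := by omega
      rw [this, pow_succ, pow_orderOf_eq_one, one_mul]
    have h6 : k • a = a := by
      have h7 : Subgroup.zpowers (k ^ 2) ≤ stabilizer H a := by rw [Subgroup.zpowers_le]; exact h3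
      rw [h5]
      exact h7 (Subgroup.pow_mem _ (Subgroup.mem_zpowers _) _)
    exact h2 (h6.symm.trans h1)
  intro h1
  obtain ⟨g, hg, hga⟩ := C.P1 a
  by_cases hh : h ∈ K
  · exact key h hh h1
  · refine key (h * g) ?_ (by rw [mul_smul, hga, h1])
    rw [Subgroup.mul_mem_iff_of_index_two C.idx]
    exact iff_of_false hh hg

/-- **[C], `p = 2`, odd characteristic.** -/
theorem Core.not_impP_two_r (h3513 : PowSet) (hr : r.Prime) (hr2 : r ≠ 2) (C : Core (V := V) 2 r K N φ) :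
    ¬ ImpP H V := by
  classical
  rintro ⟨M, W, hM, hW, hind, htop⟩
  have D : Imp M W := ⟨hW, hind, htop⟩
  haveI := C.nt
  haveI := C.nK
  haveI : Fact (Nat.Prime 2) := ⟨Nat.prime_two⟩
  have hMt : M ≠ ⊤ := hM.1
  have hker : ∀ h : H, h ∈ (MulAction.toPermHom H (H ⧸ M)).ker ↔ ∀ i : H ⧸ M, h • i = i := by
    intro h
    rw [MonoidHom.mem_ker]
    constructor
    · intro h1 i
      exact congrArg (fun e : Equiv.Perm (H ⧸ M) => e i) h1
    · intro h1
      ext i
      exact h1 i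
  obtain ⟨t, ht, ⟨k, hkK, hkt, hk1⟩, hcase, hcyc⟩ := perm_cases h3513 (prim hM) (two_le hMt)
    Nat.prime_two K C.idx C.cop (fun h hh => ker_le C D hMt hh) (exists_set Nat.prime_two C D)
  have hcyc := hcyc rfl
  have hΩ : Nat.card (H ⧸ M) = t := by omega
  have hk1' := hk1
  rw [hker] at hkt hk1
  have hktr := trans_of_prime ht hΩ hkt hk1
  -- `K` is semiregular on the blocks
  have hreg : ∀ g ∈ K, ∀ i : H ⧸ M, g • i = i → ∀ j : H ⧸ M, g • j = j := by
    intro g hg i hi j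
    obtain ⟨m, hm⟩ := hcyc k hkK hk1' g hg
    obtain ⟨l, rfl⟩ := hktr i j
    rw [hm] at hi ⊢
    rw [smul_smul, ← zpow_add, add_comm, zpow_add, mul_smul, hi]
  -- the three-colourings
  obtain ⟨a, ha, ha0⟩ := Cfsg.Agent.H586.GW.exists_ne_zero hW htop ((1 : H) : H ⧸ M)
  have h3 := C.three_col hW hind ha (AddSubgroup.neg_mem _ ha) ha0 (neg_ne_zero.2 ha0)
    (fun m _ => C.smul_ne_neg hr hr2 ha0 m)
  have h4 : ∀ b c : H ⧸ M, b ≠ c → ∃ g : H, g ∉ K ∧ g • b = b ∧ g • c = c := by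
    intro b c hbc
    obtain ⟨g, hg, h5, h6⟩ := h3 {b} {c} (by
      intro i hi
      rw [Set.mem_singleton_iff] at hi ⊢
      rw [hi]; exact hbc)
    exact ⟨g, hg, h5 b rfl, h6 c rfl⟩
  haveI := nontrivial_blocks hM
  obtain ⟨b, c, hbc⟩ := exists_pair_ne (H ⧸ M)
  obtain ⟨g, hg, hgb, -⟩ := h4 b c hbc
  apply hg
  apply ker_le C D hMt
  intro d
  by_cases hd : b = d
  · rw [← hd]; exact hgb
  · obtain ⟨g', hg', hgb', hgd'⟩ := h4 b d hd
    have h5 : g⁻¹ * g' ∈ K := by
      rw [Subgroup.mul_mem_iff_of_index_two C.idx, Subgroup.inv_mem_iff]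
      exact iff_of_false hg hg'
    have h6 := hreg _ h5 b (by rw [mul_smul, hgb', inv_smul_eq_iff, hgb]) d
    rw [mul_smul, hgd', inv_smul_eq_iff] at h6
    exact h6.symm

end Cfsg.Agent.H586.GW
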