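import Mathlib
import Cfsg.Agent.H662.GW.Defs

/-!
# Gluck-Wolf: `p` divides `s ^ (2 j) - 1`
-/

set_option autoImplicit false
set_option linter.unusedSectionVars false
set_option linter.style.haveILetI false

namespace Cfsg.Agent.H586.GW

open Cfsg.Agent.H662.GW

section
variable {p s n j : ℕ} {Y U : Type*} [Group Y] [Finite Y] [AddCommGroup U] [Finite U]
    [DistribMulAction Y U] {X : Subgroup Y} {x : Y} {B : U → U → ZMod s}

/-- [SP2] -/
theorem SA.exists_dvd (h : SA (U := U) p s n j X x B) : ∃ i, 1 ≤ i ∧ i ≤ j ∧ p ∣ s ^ (2 * i) - 1 := by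
  refine ⟨j, h.hj, le_rfl, ?_⟩
  haveI : Fact p.Prime := ⟨h.hp⟩
  have hG : IsPGroup p (Subgroup.zpowers x) :=
    IsPGroup.of_card (n := 1) (by rw [Nat.card_zpowers, h.ord, pow_one])
  have h1 := hG.card_modEq_card_fixedPoints U
  have e : MulAction.fixedPoints (Subgroup.zpowers x) U ≃ {u : U // x • u = u} := by
    refine Equiv.subtypeEquivRight fun u => ?_
    constructor
    · intro hu
      exact hu ⟨x, Subgroup.mem_zpowers x⟩
    · intro hu g
      have h2 : Subgroup.zpowers x ≤ MulAction.stabilizer Y u := by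
        rw [Subgroup.zpowers_le]
        exact hu
      exact h2 g.2
  rw [Nat.card_congr e, h.fix, h.card] at h1
  have h2 : p ∣ s ^ (2 * n) - s ^ (2 * (n - j)) :=
    (Nat.modEq_iff_dvd' (Nat.pow_le_pow_right h.hs.pos (by omega))).1 h1.symm
  have h3 : s ^ (2 * n) - s ^ (2 * (n - j)) = s ^ (2 * (n - j)) * (s ^ (2 * j) - 1) := by
    have hjn := h.hjn
    rw [Nat.mul_sub_one, ← pow_add]
    congr 2
    omega
  rw [h3] at h2
  refine (Nat.Coprime.dvd_of_dvd_mul_left ?_ h2)
  exact Nat.Coprime.pow_right _ ((Nat.coprime_primes h.hp h.hs).2 h.hps)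

end

end Cfsg.Agent.H586.GW
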